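import Mathlib

/-!
The combinatorics of vectors of norm three with inner products two, and the Diophantine equation of
Brauer's theorem on homocyclic Sylow 2-subgroups.
-/

set_option autoImplicit false

namespace Cfsg.Agent.H52.Homocyclic

section

variable {α ι : Type*} [DecidableEq α] {B : Finset α} {v : ι → α → ℤ}

/-- The support of a vector. -/
def supp (B : Finset α) (v : ι → α → ℤ) (i : ι) : Finset α := B.filter fun a => v i a ≠ 0

omit [DecidableEq α] in
theorem sq_eq_one_of_norm_three (hn : ∀ i, ∑ a ∈ B, v i a * v i a = 3) {i : ι} {a : α}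
    (ha : a ∈ supp B v i) : v i a = 1 ∨ v i a = -1 := by
  simp only [supp, Finset.mem_filter] at ha
  have h3 : v i a * v i a ≤ 3 :=
    hn i ▸ Finset.single_le_sum (f := fun a => v i a * v i a) (fun a _ => mul_self_nonneg _) ha.1
  have hb : -1 ≤ v i a ∧ v i a ≤ 1 := by constructor <;> nlinarith
  have := ha.2
  omega

omit [DecidableEq α] in
theorem supp_card (hn : ∀ i, ∑ a ∈ B, v i a * v i a = 3) (i : ι) : (supp B v i).card = 3 := by
  have h := hn i
  rw [← Finset.sum_filter_ne_zero] at h
  have e : ∀ a ∈ supp B v i, v i a * v i a = 1 := fun a ha => by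
    rcases sq_eq_one_of_norm_three hn ha with e | e <;> rw [e] <;> norm_num
  have hs : B.filter (fun a => v i a * v i a ≠ 0) = supp B v i :=
    Finset.filter_congr fun a _ => by simp
  rw [hs, Finset.sum_congr rfl e] at h
  simp only [Finset.sum_const, nsmul_one] at h
  exact_mod_cast h

/-- Two vectors with inner product two share two positions, with equal signs. -/
theorem inter_of_inner_two (hn : ∀ i, ∑ a ∈ B, v i a * v i a = 3) {i j : ι}
    (h : ∑ a ∈ B, v i a * v j a = 2) :
    (supp B v i ∩ supp B v j).card = 2 ∧ ∀ a ∈ supp B v i ∩ supp B v j, v i a = v j a := by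
  set I := supp B v i ∩ supp B v j
  have hI : ∑ a ∈ I, v i a * v j a = 2 := by
    rw [← h]
    refine Finset.sum_subset (fun a ha => ?_) fun a ha hna => ?_
    · exact (Finset.mem_filter.mp (Finset.mem_inter.mp ha).1).1
    · by_contra hne
      obtain ⟨h1, h2⟩ := mul_ne_zero_iff.mp hne
      exact hna (Finset.mem_inter.mpr
        ⟨Finset.mem_filter.mpr ⟨ha, h1⟩, Finset.mem_filter.mpr ⟨ha, h2⟩⟩)
  have hp : ∀ a ∈ I, (1 - v i a * v j a = 0 ∨ 1 - v i a * v j a = 2) := fun a ha => by
    obtain ⟨ha1, ha2⟩ := Finset.mem_inter.mp ha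
    rcases sq_eq_one_of_norm_three hn ha1 with e | e <;>
      rcases sq_eq_one_of_norm_three hn ha2 with e' | e' <;> simp [e, e']
  have hsum : ∑ a ∈ I, (1 - v i a * v j a) = (I.card : ℤ) - 2 := by
    rw [Finset.sum_sub_distrib, hI]; simp
  have h2 : (2 : ℤ) ∣ (I.card : ℤ) - 2 := hsum ▸ Finset.dvd_sum fun a ha => by
    rcases hp a ha with e | e <;> simp [e]
  have hpos : (0 : ℤ) ≤ (I.card : ℤ) - 2 := hsum ▸ Finset.sum_nonneg fun a ha => by
    rcases hp a ha with e | e <;> simp [e]
  have hle : I.card ≤ 3 := supp_card hn i ▸ Finset.card_le_card Finset.inter_subset_left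
  have hc : I.card = 2 := by omega
  refine ⟨hc, fun a ha => ?_⟩
  have h0 : 1 - v i a * v j a = 0 :=
    (Finset.sum_eq_zero_iff_of_nonneg (f := fun a => 1 - v i a * v j a)
      (fun b hb => by rcases hp b hb with e | e <;> simp [e])).mp
      (by rw [hsum, hc]; norm_num) a ha
  rcases sq_eq_one_of_norm_three hn (Finset.mem_inter.mp ha).1 with e | e <;>
    rw [e] at h0 ⊢ <;> omega

/-- A family of at least five such vectors is a sunflower. -/
theorem sunflower (r : ι → ι → Prop)
    (hr : ∀ i j, r i j → ∀ a ∈ B, v i a = v j a)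
    (hn : ∀ i, ∑ a ∈ B, v i a * v i a = 3)
    (hi : ∀ i j, ¬ r i j → ∑ a ∈ B, v i a * v j a = 2)
    (f : Fin 5 → ι) (hf : ∀ k l, k ≠ l → ¬ r (f k) (f l)) :
    ∃ a b e, a ≠ b ∧ a ≠ e ∧ b ≠ e ∧ supp B v (f 0) = {a, b, e} ∧
      (∀ i, v i a = v (f 0) a ∧ v i b = v (f 0) b) ∧ ∀ i, ¬ r i (f 0) → v i e = 0 := by
  set S := supp B v with hS
  have hI : ∀ k l, k ≠ l → (S (f k) ∩ S (f l)).card = 2 := fun k l h =>
    (inter_of_inner_two hn (hi _ _ (hf k l h))).1
  obtain ⟨a, b, hab, hK⟩ := Finset.card_eq_two.mp (hI 0 1 (by decide))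
  have hc0 : (S (f 0) \ {a, b}).card = 1 := by
    rw [Finset.card_sdiff_of_subset (hK ▸ Finset.inter_subset_left), supp_card hn,
      Finset.card_pair hab]
  obtain ⟨e, he⟩ := Finset.card_eq_one.mp hc0
  have he' : e ∈ S (f 0) \ {a, b} := he ▸ Finset.mem_singleton_self e
  simp only [Finset.mem_sdiff, Finset.mem_insert, Finset.mem_singleton, not_or] at he'
  have hS0 : S (f 0) = {a, b, e} := by
    rw [← Finset.sdiff_union_of_subset (hK ▸ Finset.inter_subset_left : {a, b} ⊆ S (f 0)), he]
    ext x; simp [or_comm, or_left_comm]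
  obtain ⟨e1, he1⟩ := Finset.card_eq_one.mp (show (S (f 1) \ {a, b}).card = 1 by
    rw [Finset.card_sdiff_of_subset (hK ▸ Finset.inter_subset_right), supp_card hn,
      Finset.card_pair hab])
  have hS1 : S (f 1) = {a, b, e1} := by
    rw [← Finset.sdiff_union_of_subset (hK ▸ Finset.inter_subset_right : {a, b} ⊆ S (f 1)), he1]
    ext x; simp [or_comm, or_left_comm]
  have hne1 : e1 ≠ a ∧ e1 ≠ b := by
    have : e1 ∈ S (f 1) \ {a, b} := he1 ▸ Finset.mem_singleton_self e1
    simpa using (Finset.mem_sdiff.mp this).2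
  -- a vector meeting both `f 0` and `f 1` in two positions contains the core or is one of two
  have hshape : ∀ i, ¬ r i (f 0) → ¬ r i (f 1) → a ∈ S i ∧ b ∈ S i ∨
      S i = {a, e, e1} ∨ S i = {b, e, e1} := by
    intro i h0 h1
    have g0 := (inter_of_inner_two hn (hi _ _ h0)).1
    have g1 := (inter_of_inner_two hn (hi _ _ h1)).1
    change (S i ∩ S (f 0)).card = 2 at g0
    change (S i ∩ S (f 1)).card = 2 at g1
    rw [hS0] at g0
    rw [hS1] at g1
    have hc : (S i).card = 3 := supp_card hn i
    have hee : e ≠ e1 := fun h => by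
      have : e ∈ ({a, b} : Finset α) := hK ▸ Finset.mem_inter.mpr ⟨he'.1, by rw [hS1, h]; simp⟩
      simp at this
      tauto
    by_cases ha : a ∈ S i <;> by_cases hb : b ∈ S i
    · exact Or.inl ⟨ha, hb⟩
    all_goals
      have he0 : e ∈ S i := by
        by_contra hee0
        have : S i ∩ {a, b, e} ⊆ (S i ∩ {a, b, e}).erase e := fun x hx =>
          Finset.mem_erase.mpr ⟨fun h => hee0 (h ▸ (Finset.mem_inter.mp hx).1), hx⟩
        simp [ha, hb, hee0, Finset.inter_insert_of_mem, Finset.inter_insert_of_notMem,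
          Finset.inter_singleton_of_notMem] at g0
      have he10 : e1 ∈ S i := by
        by_contra hee0
        simp [ha, hb, hee0, Finset.inter_insert_of_mem, Finset.inter_insert_of_notMem,
          Finset.inter_singleton_of_notMem] at g1
    · refine Or.inr (Or.inl (Finset.eq_of_subset_of_card_le ?_ ?_).symm)
      · intro x hx; simp at hx; rcases hx with rfl | rfl | rfl <;> assumption
      · rw [hc, Finset.card_eq_three.mpr ⟨a, e, e1, Ne.symm he'.2.1, hne1.1.symm, hee, rfl⟩]
    · refine Or.inr (Or.inr (Finset.eq_of_subset_of_card_le ?_ ?_).symm)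
      · intro x hx; simp at hx; rcases hx with rfl | rfl | rfl <;> assumption
      · rw [hc, Finset.card_eq_three.mpr ⟨b, e, e1, Ne.symm he'.2.2, hne1.2.symm, hee, rfl⟩]
    · simp [ha, hb, he0, Finset.inter_insert_of_mem, Finset.inter_insert_of_notMem] at g0
  -- a third vector contains the core
  obtain ⟨k, hk0, hk1, hka, hkb⟩ : ∃ k, k ≠ 0 ∧ k ≠ 1 ∧ a ∈ S (f k) ∧ b ∈ S (f k) := by
    by_contra hcon
    push Not at hcon
    have hcases : ∀ k : Fin 5, k ≠ 0 → k ≠ 1 →
        S (f k) = {a, e, e1} ∨ S (f k) = {b, e, e1} := fun k h0 h1 =>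
      (hshape _ (hf k 0 h0) (hf k 1 h1)).resolve_left fun h => hcon k h0 h1 h.1 h.2
    have hne : ∀ k l : Fin 5, k ≠ l → S (f k) ≠ S (f l) := fun k l h hkl => by
      have := hI k l h
      rw [hkl, Finset.inter_self, supp_card hn] at this
      omega
    have d23 := hne 2 3 (by decide)
    have d24 := hne 2 4 (by decide)
    have d34 := hne 3 4 (by decide)
    rcases hcases 2 (by decide) (by decide) with h2 | h2 <;>
      rcases hcases 3 (by decide) (by decide) with h3 | h3 <;>
        rcases hcases 4 (by decide) (by decide) with h4 | h4 <;>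
          simp [h2, h3, h4] at d23 d24 d34
  obtain ⟨e2, he2⟩ := Finset.card_eq_one.mp (show (S (f k) \ {a, b}).card = 1 by
    rw [Finset.card_sdiff_of_subset (by
      intro x hx; simp at hx; rcases hx with rfl | rfl <;> assumption), supp_card hn,
      Finset.card_pair hab])
  have hmem : ∀ x ∈ S (f k), x = a ∨ x = b ∨ x = e2 := fun x hx => by
    by_cases h : x ∈ ({a, b} : Finset α)
    · simp at h; tauto
    · have : x ∈ S (f k) \ {a, b} := Finset.mem_sdiff.mpr ⟨hx, h⟩
      rw [he2, Finset.mem_singleton] at this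
      exact Or.inr (Or.inr this)
  have he2ne : e2 ≠ e ∧ e2 ≠ e1 := by
    have h2m : e2 ∈ S (f k) \ {a, b} := he2 ▸ Finset.mem_singleton_self e2
    obtain ⟨h2S, h2K⟩ := Finset.mem_sdiff.mp h2m
    constructor <;> intro h
    · have hsub : ({a, b, e} : Finset α) ⊆ S (f k) ∩ S (f 0) := by
        intro x hx
        rw [Finset.mem_inter, hS0]
        refine ⟨?_, hx⟩
        simp at hx; rcases hx with rfl | rfl | rfl
        · exact hka
        · exact hkb
        · exact h ▸ h2S
      have := Finset.card_le_card hsub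
      rw [hI k 0 hk0, ← hS0, supp_card hn] at this
      omega
    · have hsub : ({a, b, e1} : Finset α) ⊆ S (f k) ∩ S (f 1) := by
        intro x hx
        rw [Finset.mem_inter, hS1]
        refine ⟨?_, hx⟩
        simp at hx; rcases hx with rfl | rfl | rfl
        · exact hka
        · exact hkb
        · exact h ▸ h2S
      have := Finset.card_le_card hsub
      rw [hI k 1 hk1, ← hS1, supp_card hn] at this
      omega
  -- every vector contains the core
  have hcore : ∀ i, a ∈ S i ∧ b ∈ S i := by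
    intro i
    have hrel : ∀ j, r i j → a ∈ S j → b ∈ S j → a ∈ S i ∧ b ∈ S i := fun j hj h1 h2 => by
      simp only [hS, supp, Finset.mem_filter] at h1 h2 ⊢
      exact ⟨⟨h1.1, hr i j hj a h1.1 ▸ h1.2⟩, h2.1, hr i j hj b h2.1 ▸ h2.2⟩
    by_cases h0 : r i (f 0)
    · exact hrel _ h0 (by rw [hS0]; simp) (by rw [hS0]; simp)
    by_cases h1 : r i (f 1)
    · exact hrel _ h1 (by rw [hS1]; simp) (by rw [hS1]; simp)
    by_cases h2 : r i (f k)
    · exact hrel _ h2 hka hkb
    refine (hshape i h0 h1).resolve_right ?_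
    intro h
    have g2 := (inter_of_inner_two hn (hi _ _ h2)).1
    change (S i ∩ S (f k)).card = 2 at g2
    have hle : (S i ∩ S (f k)).card ≤ 1 := by
      rcases h with h | h
      · refine (Finset.card_le_card (t := {a}) fun x hx => ?_).trans_eq (Finset.card_singleton a)
        obtain ⟨hxi, hxk⟩ := Finset.mem_inter.mp hx
        rw [h] at hxi
        simp only [Finset.mem_insert, Finset.mem_singleton] at hxi ⊢
        rcases hxi with hxi | hxi | hxi <;> rcases hmem x hxk with hx' | hx' | hx'
        all_goals first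
          | exact hxi
          | exact hx'
          | exact absurd (hxi.symm.trans hx') he'.2.1
          | exact absurd (hxi.symm.trans hx') he'.2.2
          | exact absurd (hx'.symm.trans hxi) he2ne.1
          | exact absurd (hxi.symm.trans hx') hne1.1
          | exact absurd (hxi.symm.trans hx') hne1.2
          | exact absurd (hx'.symm.trans hxi) he2ne.2
      · refine (Finset.card_le_card (t := {b}) fun x hx => ?_).trans_eq (Finset.card_singleton b)
        obtain ⟨hxi, hxk⟩ := Finset.mem_inter.mp hx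
        rw [h] at hxi
        simp only [Finset.mem_insert, Finset.mem_singleton] at hxi ⊢
        rcases hxi with hxi | hxi | hxi <;> rcases hmem x hxk with hx' | hx' | hx'
        all_goals first
          | exact hxi
          | exact hx'
          | exact absurd (hxi.symm.trans hx') he'.2.1
          | exact absurd (hxi.symm.trans hx') he'.2.2
          | exact absurd (hx'.symm.trans hxi) he2ne.1
          | exact absurd (hxi.symm.trans hx') hne1.1
          | exact absurd (hxi.symm.trans hx') hne1.2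
          | exact absurd (hx'.symm.trans hxi) he2ne.2
    omega
  refine ⟨a, b, e, hab, Ne.symm he'.2.1, Ne.symm he'.2.2, hS0, fun i => ?_, fun i h0 => ?_⟩
  · by_cases h0 : r i (f 0)
    · have hB : ∀ x ∈ S (f 0), x ∈ B := fun x hx => (Finset.mem_filter.mp hx).1
      exact ⟨hr i _ h0 a (hB a (by rw [hS0]; simp)), hr i _ h0 b (hB b (by rw [hS0]; simp))⟩
    · have g := (inter_of_inner_two hn (hi _ _ h0)).2
      exact ⟨g a (Finset.mem_inter.mpr ⟨(hcore i).1, by change a ∈ S (f 0); rw [hS0]; simp⟩),
        g b (Finset.mem_inter.mpr ⟨(hcore i).2, by change b ∈ S (f 0); rw [hS0]; simp⟩)⟩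
  · by_contra hne
    have hsub : ({a, b, e} : Finset α) ⊆ S i ∩ S (f 0) := by
      intro x hx
      rw [Finset.mem_inter, hS0]
      refine ⟨?_, hx⟩
      simp at hx; rcases hx with rfl | rfl | rfl
      · exact (hcore i).1
      · exact (hcore i).2
      · exact Finset.mem_filter.mpr ⟨(Finset.mem_filter.mp he'.1).1, hne⟩
    have := Finset.card_le_card hsub
    rw [(inter_of_inner_two hn (hi _ _ h0)).1, ← hS0, supp_card hn] at this
    omega

end

/-- The Diophantine step: `A, B ≡ 1 (mod 16)`, `A + B + C = -1` and `1 + 1/A + 1/B + 9/C = 0`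
force `A = 1`. -/
theorem eq_one_of_equations {A B C : ℤ} (hA : (16 : ℤ) ∣ A - 1) (h1 : 1 + A + B + C = 0)
    (h2 : A * B * C + B * C + A * C + 9 * (A * B) = 0) : A = 1 := by
  have hq : (A + 1) * B ^ 2 + (A ^ 2 - 6 * A + 1) * B + A * (A + 1) = 0 := by
    have hC : C = -(1 + A + B) := by linarith
    subst hC
    linear_combination (-1 : ℤ) * h2
  by_contra hne
  have hz : (2 * (A + 1) * B + (A ^ 2 - 6 * A + 1)) ^ 2 =
      (A - 1) ^ 2 * (A ^ 2 - 14 * A + 1) := by linear_combination (4 * (A + 1)) * hq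
  obtain ⟨w, hw⟩ : (A - 1) ∣ 2 * (A + 1) * B + (A ^ 2 - 6 * A + 1) :=
    (Int.pow_dvd_pow_iff two_ne_zero).mp ⟨_, hz⟩
  have hsq : w ^ 2 = A ^ 2 - 14 * A + 1 := by
    have hA1 : (A - 1) ^ 2 ≠ 0 := pow_ne_zero _ (sub_ne_zero.mpr hne)
    refine mul_left_cancel₀ hA1 ?_
    rw [← hz, hw]; ring
  set W := |w| with hW
  have hW0 : 0 ≤ W := abs_nonneg w
  have hW2 : W ^ 2 = A ^ 2 - 14 * A + 1 := by rw [hW, sq_abs, hsq]
  set U := |A - 7| with hU
  have hU0 : 0 ≤ U := abs_nonneg _
  have hUW : (U - W) * (U + W) = 48 := by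
    have : U ^ 2 = (A - 7) ^ 2 := sq_abs _
    linear_combination this - hW2
  have hgt : W < U := by nlinarith
  have hle : U + W ≤ 48 := by
    have g1 : (1 : ℤ) ≤ U - W := by omega
    have g2 : (0 : ℤ) ≤ U + W := by omega
    have := mul_le_mul_of_nonneg_right g1 g2
    rw [one_mul, hUW] at this
    exact this
  obtain ⟨k, hk⟩ := hA
  have hk1 : -3 ≤ k ∧ k ≤ 3 := by
    have h1 := neg_le_of_abs_le (show |A - 7| ≤ 48 by omega)
    have h2 := le_of_abs_le (show |A - 7| ≤ 48 by omega)
    omega
  have hAk : A = 16 * k + 1 := by omega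
  subst hAk
  obtain ⟨hk0, hk3⟩ := hk1
  have hWle : W ≤ 48 := by omega
  interval_cases k
  all_goals first
    | (norm_num at hne; done)
    | (clear_value W; clear hW; norm_num at hW2; interval_cases W <;> norm_num at hW2)

end Cfsg.Agent.H52.Homocyclic
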