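import Mathlib
import Cfsg.Prelude.Def_Characters
import Cfsg.Agent.H26.CharBasic
import Cfsg.Agent.H26.CharOrtho
import Cfsg.Agent.H52.Homocyclic.Combinatorics

/-!
The analysis of the principal block for Brauer's theorem on homocyclic Sylow 2-subgroups: block
orthogonality on an abelian subgroup with a fixed-point-free automorphism of order three forces a
non-principal linear character.
-/

set_option autoImplicit false

open scoped ComplexConjugate

namespace Cfsg.Agent.H52.Homocyclic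

open Cfsg

section Dual

variable {A : Type*} [CommGroup A] [Finite A]

/-- Some linear character separates a non-trivial element from the identity. -/
theorem exists_hom_apply_ne_one {a : A} (ha : a ≠ 1) : ∃ φ : A →* ℂˣ, φ a ≠ 1 :=
  CommGroup.exists_apply_ne_one_of_hasEnoughRootsOfUnity A ℂ ha

theorem card_hom : Nat.card (A →* ℂˣ) = Nat.card A :=
  CommGroup.card_monoidHom_of_hasEnoughRootsOfUnity A ℂ

theorem finite_hom : Finite (A →* ℂˣ) :=
  Nat.finite_of_card_ne_zero (by rw [card_hom]; exact Nat.card_pos.ne')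

/-- The second orthogonality relation of an abelian group. -/
theorem sum_hom_apply [Fintype (A →* ℂˣ)] [DecidableEq A] (y : A) :
    ∑ μ : A →* ℂˣ, (μ y : ℂ) = if y = 1 then (Nat.card A : ℂ) else 0 := by
  split_ifs with h
  · subst h
    simp [← card_hom (A := A), Nat.card_eq_fintype_card]
  · obtain ⟨φ, hφ⟩ := exists_hom_apply_ne_one h
    have e : (φ y : ℂ) * ∑ μ : A →* ℂˣ, (μ y : ℂ) = ∑ μ : A →* ℂˣ, (μ y : ℂ) := by
      rw [Finset.mul_sum]
      exact Fintype.sum_equiv (Equiv.mulLeft φ) _ _ fun μ => by simp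
    by_contra hne
    exact hφ (Units.ext ((mul_eq_right₀ hne).mp e))

/-- The first orthogonality relation of an abelian group. -/
theorem sum_apply_hom [Fintype A] (μ : A →* ℂˣ) [Decidable (μ = 1)] :
    ∑ x : A, (μ x : ℂ) = if μ = 1 then (Nat.card A : ℂ) else 0 := by
  split_ifs with h
  · subst h
    simp [Nat.card_eq_fintype_card]
  · obtain ⟨a, ha⟩ : ∃ a, μ a ≠ 1 := by
      by_contra hc
      push Not at hc
      exact h (MonoidHom.ext hc)
    have e : (μ a : ℂ) * ∑ x : A, (μ x : ℂ) = ∑ x : A, (μ x : ℂ) := by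
      rw [Finset.mul_sum]
      exact Fintype.sum_equiv (Equiv.mulLeft a) _ _ fun x => by simp
    by_contra hne
    exact ha (Units.ext ((mul_eq_right₀ hne).mp e))

theorem conj_hom_apply (μ : A →* ℂˣ) (x : A) : conj (μ x : ℂ) = (μ x⁻¹ : ℂ) :=
  (H26.irr_inv ⟨_, H26.isIrrCharacter_hom μ⟩ x).symm

end Dual

variable {G A : Type*} [Group G] [Finite G] [CommGroup A] [Finite A]

open scoped Classical in
/-- If the characters in `B` satisfy, on the abelian group `A` with a fixed-point-free automorphism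
`σ` of order three, the orthogonality relations of a principal block and the relation of the class
multiplication constants, then some non-principal member of `B` is linear. -/
theorem exists_linear [Fintype A] (ι : A →* G) (σ : A ≃* A) (hσ3 : ∀ x, σ (σ (σ x)) = x)
    (hfix : ∀ x, σ x = x → x = 1) (hq : 16 ∣ Nat.card A)
    (B : Finset (IrrCharacter G)) (h1B : H26.oneIrr G ∈ B)
    (hσχ : ∀ (χ : IrrCharacter G) (x : A), (χ : G → ℂ) (ι (σ x)) = (χ : G → ℂ) (ι x))
    (hsec : ∀ x y : A, x ≠ 1 → y ≠ 1 →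
      ∑ χ ∈ B, (χ : G → ℂ) (ι x) * conj ((χ : G → ℂ) (ι y)) = (Nat.card A : ℂ) *
        ((if y = x then 1 else 0) + (if y = σ x then 1 else 0) + (if y = σ (σ x) then 1 else 0)))
    (hdeg : ∀ x : A, x ≠ 1 → ∑ χ ∈ B, (χ : G → ℂ) (ι x) * (χ : G → ℂ) 1 = 0)
    {t : A} (ht1 : t ≠ 1) (ht2 : t * t = 1) {a₀ : A} (ha₀ : a₀ * a₀ ≠ 1)
    (hcube : ∀ x : A, x * x ≠ 1 →
      ∑ χ ∈ B, (χ : G → ℂ) (ι x) * ((χ : G → ℂ) (ι t) ^ 2 / (χ : G → ℂ) 1) = 0) :
    ∃ χ ∈ B, χ ≠ H26.oneIrr G ∧ (χ : G → ℂ) 1 = 1 := by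
  haveI := Fintype.ofFinite G
  haveI : Finite (A →* ℂˣ) := finite_hom
  haveI := Fintype.ofFinite (A →* ℂˣ)
  set q : ℂ := (Nat.card A : ℂ) with hqdef
  have hq0 : q ≠ 0 := Nat.cast_ne_zero.mpr Nat.card_pos.ne'
  -- the precomposition with the automorphism
  let sc : (A →* ℂˣ) → (A →* ℂˣ) := fun ν => ν.comp σ.toMonoidHom
  have sc3 : ∀ ν, sc (sc (sc ν)) = ν := fun ν => MonoidHom.ext fun x => by
    simp only [sc, MonoidHom.comp_apply, MulEquiv.coe_toMonoidHom]
    rw [hσ3]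
  have scfix : ∀ ν, sc ν = ν → ν = 1 := by
    intro ν hν
    have hinj : Function.Injective fun x : A => x⁻¹ * σ x := by
      intro x y h
      have : σ (x * y⁻¹) = x * y⁻¹ := by
        have h' : σ x * (σ y)⁻¹ = x * y⁻¹ := by
          have h2 : x⁻¹ * σ x = y⁻¹ * σ y := h
          calc σ x * (σ y)⁻¹ = x * (x⁻¹ * σ x) * (σ y)⁻¹ := by group
            _ = x * (y⁻¹ * σ y) * (σ y)⁻¹ := by rw [h2]
            _ = x * y⁻¹ := by group
        rw [map_mul, map_inv, h']
      exact mul_inv_eq_one.mp (hfix _ this)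
    refine MonoidHom.ext fun z => ?_
    obtain ⟨x, rfl⟩ := (Finite.injective_iff_surjective.mp hinj) z
    have e : ν (σ x) = ν x := by
      conv_rhs => rw [← hν]
      rfl
    simp [map_mul, map_inv, e]
  have hinvne : ∀ {μ : A →* ℂˣ}, μ ≠ 1 → μ⁻¹ ≠ 1 := fun {μ} hμ h =>
    hμ (MonoidHom.ext fun x => by simpa using DFunLike.congr_fun h x)
  -- the vectors
  let w : (A →* ℂˣ) → IrrCharacter G → ℂ :=
    fun μ χ => q⁻¹ * ∑ x : A, (χ : G → ℂ) (ι x) * (1 - (μ x⁻¹ : ℂ))
  have hwint : ∀ μ χ, ∃ n : ℤ, w μ χ = n := by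
    intro μ χ
    have hc : IsCharacter A fun x => (χ : G → ℂ) (ι x) :=
      H26.isCharacter_comp (H26.irr_isCharacter χ) ι
    obtain ⟨n₁, hn₁⟩ := H26.exists_nat_classInner_irr hc ⟨_, H26.isIrrCharacter_hom (1 : A →* ℂˣ)⟩
    obtain ⟨n₂, hn₂⟩ := H26.exists_nat_classInner_irr hc ⟨_, H26.isIrrCharacter_hom μ⟩
    refine ⟨(n₁ : ℤ) - n₂, ?_⟩
    push_cast
    rw [← hn₁, ← hn₂]
    simp only [w, classInner, conj_hom_apply, MonoidHom.one_apply, Units.val_one, mul_sub,
      Finset.sum_sub_distrib, mul_one, map_one, hqdef]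
  choose v hv using hwint
  have hm1 : ∀ χ : IrrCharacter G, ∃ n : ℕ, q⁻¹ * ∑ x : A, (χ : G → ℂ) (ι x) = n := by
    intro χ
    have hc : IsCharacter A fun x => (χ : G → ℂ) (ι x) :=
      H26.isCharacter_comp (H26.irr_isCharacter χ) ι
    obtain ⟨n, hn⟩ := H26.exists_nat_classInner_irr hc ⟨_, H26.isIrrCharacter_hom (1 : A →* ℂˣ)⟩
    refine ⟨n, ?_⟩
    rw [← hn]
    simp [classInner, hqdef]
  -- their Gram matrix
  have hgram : ∀ μ ν, μ ≠ 1 → ν ≠ 1 → ∑ χ ∈ B, (v μ χ : ℂ) * (v ν χ : ℂ) =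
      3 + ((if μ = ν then 1 else 0) + (if μ = sc ν then 1 else 0) +
        (if μ = sc (sc ν) then 1 else 0)) := by
    intro μ ν hμ hν
    have e1 : ∀ χ : IrrCharacter G, (v μ χ : ℂ) * (v ν χ : ℂ) =
        q⁻¹ * q⁻¹ * ∑ x : A, ∑ y : A, ((1 - (μ x⁻¹ : ℂ)) * (1 - (ν y : ℂ))) *
          ((χ : G → ℂ) (ι x) * conj ((χ : G → ℂ) (ι y))) := by
      intro χ
      have hr : (v ν χ : ℂ) = q⁻¹ * ∑ y : A, conj ((χ : G → ℂ) (ι y)) * (1 - (ν y : ℂ)) := by
        have := congrArg (starRingEnd ℂ) (hv ν χ)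
        simp only [w, map_mul, map_inv₀, map_sum, map_sub, map_one, map_intCast, conj_hom_apply,
          inv_inv, hqdef, map_natCast] at this
        exact this.symm
      rw [← hv μ χ, hr]
      simp only [w, Finset.mul_sum, Finset.sum_mul]
      rw [Finset.sum_comm]
      exact Finset.sum_congr rfl fun y _ => Finset.sum_congr rfl fun x _ => by ring
    rw [Finset.sum_congr rfl fun χ _ => e1 χ, ← Finset.mul_sum, Finset.sum_comm]
    have e2 : ∀ x : A, ∑ χ ∈ B, ∑ y : A, ((1 - (μ x⁻¹ : ℂ)) * (1 - (ν y : ℂ))) *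
        ((χ : G → ℂ) (ι x) * conj ((χ : G → ℂ) (ι y))) =
        q * ((1 - (μ x⁻¹ : ℂ)) * (1 - (ν x : ℂ)) + (1 - (μ x⁻¹ : ℂ)) * (1 - (sc ν x : ℂ)) +
          (1 - (μ x⁻¹ : ℂ)) * (1 - (sc (sc ν) x : ℂ))) := by
      intro x
      rw [Finset.sum_comm]
      by_cases hx : x = 1
      · subst hx; simp
      have e3 : ∀ y : A, ∑ χ ∈ B, ((1 - (μ x⁻¹ : ℂ)) * (1 - (ν y : ℂ))) *
          ((χ : G → ℂ) (ι x) * conj ((χ : G → ℂ) (ι y))) =
          q * ((if y = x then (1 - (μ x⁻¹ : ℂ)) * (1 - (ν y : ℂ)) else 0) +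
            (if y = σ x then (1 - (μ x⁻¹ : ℂ)) * (1 - (ν y : ℂ)) else 0) +
            (if y = σ (σ x) then (1 - (μ x⁻¹ : ℂ)) * (1 - (ν y : ℂ)) else 0)) := by
        intro y
        rw [← Finset.mul_sum]
        by_cases hy : y = 1
        · subst hy; simp
        rw [hsec x y hx hy]
        split_ifs <;> ring
      rw [Finset.sum_congr rfl fun y _ => e3 y, ← Finset.mul_sum, Finset.sum_add_distrib,
        Finset.sum_add_distrib, Finset.sum_ite_eq', Finset.sum_ite_eq', Finset.sum_ite_eq']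
      simp [sc]
    rw [Finset.sum_congr rfl fun x _ => e2 x, ← Finset.mul_sum, Finset.sum_add_distrib,
      Finset.sum_add_distrib]
    have e4 : ∀ ν' : A →* ℂˣ, ν' ≠ 1 → ∑ x : A, (1 - (μ x⁻¹ : ℂ)) * (1 - (ν' x : ℂ)) =
        q * (1 + if μ = ν' then 1 else 0) := by
      intro ν' hν'
      have h4 : ∀ x : A, (μ x⁻¹ : ℂ) = ((μ⁻¹) x : ℂˣ) := fun x => by simp [map_inv]
      have hiff : μ⁻¹ * ν' = 1 ↔ μ = ν' := by simp [MonoidHom.ext_iff, inv_mul_eq_one]
      simp only [sub_mul, mul_sub, one_mul, mul_one, Finset.sum_sub_distrib]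
      rw [Finset.sum_congr rfl fun x _ => h4 x, sum_apply_hom, if_neg (hinvne hμ),
        sum_apply_hom, if_neg hν']
      have h5 : ∀ x : A, (μ x⁻¹ : ℂ) * (ν' x : ℂ) = (((μ⁻¹ * ν') x : ℂˣ) : ℂ) := fun x => by
        simp [map_inv]
      rw [Finset.sum_congr rfl fun x _ => h5 x, sum_apply_hom]
      simp only [hiff, Finset.sum_const, Finset.card_univ, nsmul_eq_mul, mul_one,
        ← Nat.card_eq_fintype_card, hqdef]
      split_ifs <;> ring
    have hsc : ∀ ν', ν' ≠ 1 → sc ν' ≠ 1 := fun ν' h0 h => by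
      have := congrArg (fun f => sc (sc f)) h
      simp only [sc3] at this
      exact h0 (this.trans (by simp [sc]))
    rw [e4 ν hν, e4 _ (hsc ν hν), e4 _ (hsc _ (hsc ν hν))]
    field_simp
    ring
  have hvσ : ∀ μ χ, v (sc μ) χ = v μ χ := by
    intro μ χ
    apply Int.cast_injective (α := ℂ)
    rw [← hv, ← hv]
    simp only [w]
    congr 1
    refine Fintype.sum_equiv σ.toEquiv _ _ fun x => ?_
    simp [sc, hσχ, map_inv]
  have hvone : ∀ μ, μ ≠ 1 → v μ (H26.oneIrr G) = 1 := by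
    intro μ hμ
    apply Int.cast_injective (α := ℂ)
    rw [← hv]
    simp only [w, H26.oneIrr_val, one_mul, Finset.sum_sub_distrib, map_inv]
    have h4 : ∀ x : A, (((μ x)⁻¹ : ℂˣ) : ℂ) = ((μ⁻¹) x : ℂˣ) := fun x => rfl
    rw [Finset.sum_congr rfl fun x _ => h4 x, sum_apply_hom, if_neg (hinvne hμ)]
    simp [← Nat.card_eq_fintype_card, hqdef, hq0]
  -- the sunflower
  let I := {μ : A →* ℂˣ // μ ≠ 1}
  let r : I → I → Prop := fun i j => i.1 = j.1 ∨ i.1 = sc j.1 ∨ i.1 = sc (sc j.1)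
  have hrsymm : ∀ i j, r i j → r j i := by
    rintro i j (h | h | h)
    · exact Or.inl h.symm
    · exact Or.inr (Or.inr (by rw [h, sc3]))
    · exact Or.inr (Or.inl (by rw [h, sc3]))
  have hrv : ∀ i j : I, r i j → ∀ χ : IrrCharacter G, v i.1 χ = v j.1 χ := by
    rintro i j (h | h | h) χ <;> simp [h, hvσ]
  have hinner : ∀ i j : I, ∑ χ ∈ B.erase (H26.oneIrr G), (v i.1 χ : ℂ) * (v j.1 χ : ℂ) =
      2 + ((if i.1 = j.1 then 1 else 0) + (if i.1 = sc j.1 then 1 else 0) +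
        (if i.1 = sc (sc j.1) then 1 else 0)) := by
    intro i j
    rw [Finset.sum_erase_eq_sub h1B, hgram _ _ i.2 j.2, hvone _ i.2, hvone _ j.2]
    push_cast
    ring
  have hscne : ∀ i : I, i.1 ≠ sc i.1 ∧ i.1 ≠ sc (sc i.1) ∧ sc i.1 ≠ sc (sc i.1) := by
    intro i
    refine ⟨fun h => i.2 (scfix _ h.symm), fun h => i.2 (scfix _ ?_), fun h => i.2 (scfix _ ?_)⟩
    · conv_lhs => rw [h]
      exact sc3 _
    · have := congrArg (fun f => sc (sc f)) h
      simp only [sc3] at this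
      exact this.symm
  have hn : ∀ i : I, ∑ χ ∈ B.erase (H26.oneIrr G), v i.1 χ * v i.1 χ = 3 := by
    intro i
    have := hinner i i
    rw [if_pos rfl, if_neg (hscne i).1, if_neg (hscne i).2.1] at this
    norm_num at this
    exact_mod_cast this
  have hi : ∀ i j : I, ¬ r i j → ∑ χ ∈ B.erase (H26.oneIrr G), v i.1 χ * v j.1 χ = 2 := by
    intro i j h
    simp only [r, not_or] at h
    have := hinner i j
    rw [if_neg h.1, if_neg h.2.1, if_neg h.2.2] at this
    norm_num at this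
    exact_mod_cast this
  have hexists : ∀ s : Finset I, s.card ≤ 4 → ∃ i : I, ∀ j ∈ s, ¬ r i j := by
    intro s hs
    by_contra hc
    push Not at hc
    have hsub : (Finset.univ : Finset I).map ⟨Subtype.val, Subtype.val_injective⟩ ⊆
        s.biUnion fun j => {j.1, sc j.1, sc (sc j.1)} := by
      intro μ hμ
      obtain ⟨i, -, rfl⟩ := Finset.mem_map.mp hμ
      obtain ⟨j, hj, hr⟩ := hc i
      exact Finset.mem_biUnion.mpr ⟨j, hj, by simpa [r] using hr⟩
    have h1 := (Finset.card_le_card hsub).trans Finset.card_biUnion_le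
    have h2 : ∑ j ∈ s, ({j.1, sc j.1, sc (sc j.1)} : Finset (A →* ℂˣ)).card ≤ s.card * 3 := by
      refine (Finset.sum_le_card_nsmul _ _ 3 fun j _ => Finset.card_le_three).trans ?_
      simp
    have h3 : Fintype.card I = Nat.card A - 1 := by
      rw [Fintype.card_subtype_compl, Fintype.card_subtype_eq, ← Nat.card_eq_fintype_card, card_hom]
    rw [Finset.card_map, Finset.card_univ, h3] at h1
    have := Nat.le_of_dvd Nat.card_pos hq
    omega
  obtain ⟨φ, hφ⟩ := exists_hom_apply_ne_one ha₀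
  have hμ0 : φ * φ ≠ 1 := fun h => hφ (by
    simpa [map_mul] using congrArg (fun f : A →* ℂˣ => f a₀) h)
  set μ0 : I := ⟨φ * φ, hμ0⟩
  have hμ0sq : ∀ x : A, x * x = 1 → (μ0.1 x : ℂ) = 1 := fun x hx => by
    simp only [μ0, MonoidHom.mul_apply, ← map_mul, hx, map_one, Units.val_one]
  obtain ⟨i1, hi1⟩ := hexists {μ0} (by simp)
  obtain ⟨i2, hi2⟩ := hexists {μ0, i1} (Finset.card_le_two.trans (by norm_num))
  obtain ⟨i3, hi3⟩ := hexists {μ0, i1, i2} (Finset.card_le_three.trans (by norm_num))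
  obtain ⟨i4, hi4⟩ := hexists {μ0, i1, i2, i3} Finset.card_le_four
  simp only [Finset.mem_insert, Finset.mem_singleton, forall_eq_or_imp, forall_eq] at hi1 hi2 hi3 hi4
  have hf : ∀ k l : Fin 5, k ≠ l → ¬ r (![μ0, i1, i2, i3, i4] k) (![μ0, i1, i2, i3, i4] l) := by
    have sy : ∀ {i j}, ¬ r i j → ¬ r j i := fun {i j} h h' => h (hrsymm _ _ h')
    intro k l hkl
    fin_cases k <;> fin_cases l
    all_goals first
      | exact absurd rfl hkl
      | exact hi1 | exact sy hi1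
      | exact hi2.1 | exact sy hi2.1 | exact hi2.2 | exact sy hi2.2
      | exact hi3.1 | exact sy hi3.1 | exact hi3.2.1 | exact sy hi3.2.1 | exact hi3.2.2
      | exact sy hi3.2.2 | exact hi4.1 | exact sy hi4.1 | exact hi4.2.1 | exact sy hi4.2.1
      | exact hi4.2.2.1 | exact sy hi4.2.2.1 | exact hi4.2.2.2 | exact sy hi4.2.2.2
  obtain ⟨a, b, e, hab, hae, hbe, hS, hcore, hother⟩ :=
    sunflower (B := B.erase (H26.oneIrr G)) (v := fun (i : I) χ => v i.1 χ) r
      (fun i j h χ _ => hrv i j h χ) hn hi ![μ0, i1, i2, i3, i4] hf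
  change supp _ _ μ0 = _ at hS
  simp only [Matrix.cons_val_zero] at hcore hother
  have hmem : ∀ χ ∈ ({a, b, e} : Finset (IrrCharacter G)),
      χ ∈ supp (B.erase (H26.oneIrr G)) (fun (i : I) χ => v i.1 χ) μ0 := fun χ h => hS ▸ h
  have haS := hmem a (by simp)
  have hbS := hmem b (by simp)
  have heS := hmem e (by simp)
  set da := v μ0.1 a
  set db := v μ0.1 b
  set s := v μ0.1 e
  have hda : da = 1 ∨ da = -1 := sq_eq_one_of_norm_three hn haS
  have hdb : db = 1 ∨ db = -1 := sq_eq_one_of_norm_three hn hbS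
  have hs : s = 1 ∨ s = -1 := sq_eq_one_of_norm_three hn heS
  have hv1 : ∀ χ, v 1 χ = 0 := fun χ => by
    apply Int.cast_injective (α := ℂ)
    rw [← hv]
    simp [w]
  -- sums over the block against the vector of `μ0`
  have hsumB : ∀ f : IrrCharacter G → ℂ, ∑ χ ∈ B, (v μ0.1 χ : ℂ) * f χ =
      f (H26.oneIrr G) + (da : ℂ) * f a + (db : ℂ) * f b + (s : ℂ) * f e := by
    intro f
    rw [← Finset.add_sum_erase B _ h1B, hvone _ μ0.2, Int.cast_one, one_mul]
    have hsub : ({a, b, e} : Finset (IrrCharacter G)) ⊆ B.erase (H26.oneIrr G) := fun χ h =>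
      (Finset.mem_filter.mp (hmem χ h)).1
    rw [← Finset.sum_subset hsub fun χ hχ hn' => ?_]
    · rw [Finset.sum_insert (by simp [hab, hae]), Finset.sum_insert (by simp [hbe]),
        Finset.sum_singleton]
      ring
    · have : v μ0.1 χ = 0 := by
        by_contra h0
        exact hn' (hS ▸ Finset.mem_filter.mpr ⟨hχ, h0⟩)
      simp [this]
  have hwsum : ∀ (μ : A →* ℂˣ) (f : IrrCharacter G → ℂ), ∑ χ ∈ B, (v μ χ : ℂ) * f χ =
      q⁻¹ * ∑ x : A, (1 - (μ x⁻¹ : ℂ)) * ∑ χ ∈ B, (χ : G → ℂ) (ι x) * f χ := by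
    intro μ f
    simp only [← hv, w, Finset.mul_sum, Finset.sum_mul]
    rw [Finset.sum_comm]
    exact Finset.sum_congr rfl fun x _ => Finset.sum_congr rfl fun χ _ => by ring
  have hE1 : ∑ χ ∈ B, (v μ0.1 χ : ℂ) * (χ : G → ℂ) 1 = 0 := by
    rw [hwsum, Finset.sum_eq_zero fun x _ => ?_, mul_zero]
    by_cases hx : x = 1
    · subst hx; simp
    · rw [hdeg x hx, mul_zero]
  have hE2 : ∑ χ ∈ B, (v μ0.1 χ : ℂ) * ((χ : G → ℂ) (ι t) ^ 2 / (χ : G → ℂ) 1) = 0 := by
    rw [hwsum, Finset.sum_eq_zero fun x _ => ?_, mul_zero]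
    by_cases hx : x * x = 1
    · rw [hμ0sq x⁻¹ (by rw [← mul_inv_rev, hx, inv_one]), sub_self, zero_mul]
    · rw [hcube x hx, mul_zero]
  -- values at the involution
  have hval : ∀ χ : IrrCharacter G,
      (χ : G → ℂ) (ι t) = -∑ μ : A →* ℂˣ, (v μ χ : ℂ) * (μ t : ℂ) := by
    intro χ
    simp only [← hv, w, Finset.mul_sum, Finset.sum_mul]
    rw [Finset.sum_comm]
    have e5 : ∀ x : A, ∑ μ : A →* ℂˣ, q⁻¹ * ((χ : G → ℂ) (ι x) * (1 - (μ x⁻¹ : ℂ))) * (μ t : ℂ) =
        q⁻¹ * (χ : G → ℂ) (ι x) * (0 - if x = t then q else 0) := by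
      intro x
      have h5 : ∀ μ : A →* ℂˣ, q⁻¹ * ((χ : G → ℂ) (ι x) * (1 - (μ x⁻¹ : ℂ))) * (μ t : ℂ) =
          q⁻¹ * (χ : G → ℂ) (ι x) * ((μ t : ℂ) - (μ (x⁻¹ * t) : ℂ)) := fun μ => by
        rw [map_mul, Units.val_mul]; ring
      rw [Finset.sum_congr rfl fun μ _ => h5 μ, ← Finset.mul_sum, Finset.sum_sub_distrib,
        sum_hom_apply, sum_hom_apply, if_neg ht1]
      simp only [inv_mul_eq_one, hqdef]
    rw [Finset.sum_congr rfl fun x _ => e5 x]
    simp [Finset.sum_ite_eq', hq0]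
    field_simp
  have hsumt : ∑ μ : A →* ℂˣ, (μ t : ℂ) = 0 := by rw [sum_hom_apply, if_neg ht1]
  have hconst : ∀ χ : IrrCharacter G, (∀ i : I, v i.1 χ = v μ0.1 χ) →
      (χ : G → ℂ) (ι t) = (v μ0.1 χ : ℂ) := by
    intro χ hc
    rw [hval, ← Finset.add_sum_erase _ _ (Finset.mem_univ (1 : A →* ℂˣ)), hv1,
      Finset.sum_congr rfl fun μ hμ => by rw [hc ⟨μ, (Finset.mem_erase.mp hμ).1⟩],
      ← Finset.mul_sum, Finset.sum_erase_eq_sub (Finset.mem_univ _), hsumt]
    simp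
  have hat : (a : G → ℂ) (ι t) = (da : ℂ) := hconst a fun i => (hcore i).1
  have hbt : (b : G → ℂ) (ι t) = (db : ℂ) := hconst b fun i => (hcore i).2
  have het : (e : G → ℂ) (ι t) = -3 * (s : ℂ) := by
    rw [hval, ← Finset.sum_subset (Finset.subset_univ {μ0.1, sc μ0.1, sc (sc μ0.1)})
      fun μ _ hμ => ?_]
    · rw [Finset.sum_insert (by simp [(hscne μ0).1, (hscne μ0).2.1]),
        Finset.sum_insert (by simp [(hscne μ0).2.2]), Finset.sum_singleton]
      simp only [hvσ]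
      have ht' : σ t * σ t = 1 := by rw [← map_mul, ht2, map_one]
      have ht'' : σ (σ t) * σ (σ t) = 1 := by rw [← map_mul, ht', map_one]
      simp only [sc, MonoidHom.comp_apply, MulEquiv.coe_toMonoidHom]
      rw [hμ0sq t ht2, hμ0sq _ ht', hμ0sq _ ht'']
      ring
    · by_cases h1 : μ = 1
      · simp [h1, hv1]
      · have : v μ e = 0 := hother ⟨μ, h1⟩ (by simpa [r] using hμ)
        simp [this]
  -- degrees
  choose d hd using fun χ : IrrCharacter G => H26.exists_nat_char_one (H26.irr_isCharacter χ)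
  have hdne : ∀ χ, (d χ : ℂ) ≠ 0 := fun χ => by rw [← hd]; exact H26.irr_one_ne_zero χ
  have hcong : ∀ χ : IrrCharacter G, (∀ i : I, v i.1 χ = v μ0.1 χ) →
      (16 : ℤ) ∣ (d χ : ℤ) - v μ0.1 χ := by
    intro χ hc
    obtain ⟨n, hn'⟩ := hm1 χ
    have e : ∑ μ : A →* ℂˣ, (v μ χ : ℂ) = q * n - (d χ : ℂ) := by
      simp only [← hv, w]
      rw [← Finset.mul_sum, Finset.sum_comm]
      have hcardq : (Fintype.card (A →* ℂˣ) : ℂ) = q := by
        rw [← Nat.card_eq_fintype_card, card_hom]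
      have e6 : ∀ x : A, ∑ μ : A →* ℂˣ, (χ : G → ℂ) (ι x) * (1 - (μ x⁻¹ : ℂ)) =
          (χ : G → ℂ) (ι x) * (q - if x = 1 then q else 0) := fun x => by
        rw [← Finset.mul_sum, Finset.sum_sub_distrib, sum_hom_apply]
        simp [inv_eq_one, hcardq, hqdef]
      rw [Finset.sum_congr rfl fun x _ => e6 x, ← hn', ← hd]
      simp only [mul_sub, Finset.sum_sub_distrib, mul_ite, mul_zero, Finset.sum_ite_eq',
        Finset.mem_univ, if_true, map_one, ← Finset.sum_mul]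
      field_simp
    rw [← Finset.add_sum_erase _ _ (Finset.mem_univ (1 : A →* ℂˣ)), hv1,
      Finset.sum_congr rfl fun μ hμ => by rw [hc ⟨μ, (Finset.mem_erase.mp hμ).1⟩],
      Finset.sum_const, Finset.card_erase_of_mem (Finset.mem_univ _), Finset.card_univ,
      ← Nat.card_eq_fintype_card, card_hom, nsmul_eq_mul, Nat.cast_sub Nat.card_pos, hqdef] at e
    obtain ⟨k, hk⟩ := hq
    refine ⟨(k : ℤ) * ((n : ℤ) - v μ0.1 χ), ?_⟩
    apply Int.cast_injective (α := ℂ)
    rw [hk] at e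
    push_cast at e ⊢
    linear_combination e
  have hA16 : (16 : ℤ) ∣ da * d a - 1 := by
    have := hcong a fun i => (hcore i).1
    rcases hda with h | h <;> rw [h] <;> rw [show v μ0.1 a = da from rfl, h] at this <;> omega
  have hone : ∀ g : G, (H26.oneIrr G : IrrCharacter G).1 g = 1 := H26.oneIrr_val
  have h1 : 1 + da * d a + db * d b + s * d e = 0 := by
    rw [hsumB, hone, hd, hd, hd] at hE1
    exact_mod_cast hE1
  have h2 : da * d a * (db * d b) * (s * d e) + db * d b * (s * d e) + da * d a * (s * d e) +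
      9 * (da * d a * (db * d b)) = 0 := by
    rw [hsumB, hat, hbt, het, hone, hone, hd, hd, hd] at hE2
    apply Int.cast_injective (α := ℂ)
    push_cast
    have := hdne a
    have := hdne b
    have := hdne e
    have qa : (da : ℂ) ^ 2 = 1 := by rcases hda with h | h <;> simp [h]
    have qb : (db : ℂ) ^ 2 = 1 := by rcases hdb with h | h <;> simp [h]
    have qs : (s : ℂ) ^ 2 = 1 := by rcases hs with h | h <;> simp [h]
    field_simp at hE2
    rcases hda with h | h <;> rcases hdb with h' | h' <;> rcases hs with h'' | h'' <;>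
      simp only [h, h', h'', Int.cast_one, Int.cast_neg] at hE2 ⊢ <;>
      first | linear_combination hE2 | linear_combination -hE2
  have hA := eq_one_of_equations hA16 h1 h2
  refine ⟨a, Finset.mem_of_mem_erase (Finset.mem_filter.mp haS).1,
    Finset.ne_of_mem_erase (Finset.mem_filter.mp haS).1, ?_⟩
  have : (d a : ℤ) = 1 := by rcases hda with h | h <;> rw [h] at hA <;> omega
  rw [hd]
  exact_mod_cast this

end Cfsg.Agent.H52.Homocyclic
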