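import Cfsg.Agent.S0947
import Cfsg.Agent.H40.BlockSets
import Cfsg.Agent.H40.SecondMain
import Cfsg.Agent.H41.PrincipalSection
import Cfsg.Agent.H41.AbelianSylowAction
import Cfsg.Agent.H42.ClassMult
import Cfsg.Agent.H42.MaxIdeal
import Cfsg.Agent.H42.StableBlock
import Cfsg.Agent.H26.CharLinear
import Cfsg.Agent.H19.Cores
import Cfsg.Agent.H52.Homocyclic.Analysis

/-!
Brauer's theorem on groups with homocyclic Sylow 2-subgroups of rank two: without odd normal
subgroups the Sylow subgroup is normal.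
-/

set_option autoImplicit false

open scoped ComplexConjugate

namespace Cfsg.Agent.H52.Homocyclic

open Cfsg

variable {G : Type*} [Group G] [Finite G]

/-- An odd normal subgroup of a normal subgroup is trivial if the group has no odd core. -/
theorem eq_bot_of_odd_of_normal (hO : ∀ N : Subgroup G, N.Normal → Odd (Nat.card N) → N = ⊥)
    (K : Subgroup G) [K.Normal] (N : Subgroup K) (hN : N.Normal) (hodd : Odd (Nat.card N)) :
    N = ⊥ := by
  have hcop : (Nat.card N).Coprime 2 := Nat.coprime_two_right.mpr hodd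
  have hle : N.map K.subtype ≤ pPrimeCore 2 G :=
    (Subgroup.map_mono (H19.le_pPrimeCore hN hcop)).trans (H19.map_pPrimeCore_le K)
  rw [hO _ (H19.pPrimeCore_normal 2 G) (Nat.coprime_two_right.mp (H19.pPrimeCore_coprime 2)),
    le_bot_iff, Subgroup.map_eq_bot_iff_of_injective _ K.subtype_injective] at hle
  exact hle

open scoped Classical in
/-- The multiplication constant relation of the principal block on the section of an element whose
centraliser has a normal 2-complement. -/
theorem sum_block_cube [Fintype G] {M : Ideal AlgInt} (hM : IsPModular 2 M) {x t : G}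
    (hx : ∃ j, orderOf x = 2 ^ j)
    (hnc : ∃ k, (pPrimeCore 2 (Subgroup.centralizer ({x} : Set G))).index = 2 ^ k)
    (ht : orderOf t = 2) (hinv : ∀ u : G, u * x * u⁻¹ ≠ x⁻¹) :
    ∑ χ ∈ Finset.univ.filter (· ∈ principalBlock M G),
      (χ : G → ℂ) x * ((χ : G → ℂ) t ^ 2 / (χ : G → ℂ) 1) = 0 := by
  haveI : Fact (Nat.Prime 2) := ⟨Nat.prime_two⟩
  haveI := hM.2.1
  haveI := Fintype.ofFinite (Subgroup.centralizer ({x} : Set G))
  haveI := H19.pPrimeCore_normal 2 (Subgroup.centralizer ({x} : Set G))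
  set K := pPrimeCore 2 (Subgroup.centralizer ({x} : Set G))
  have hKodd : ¬ 2 ∣ Nat.card K :=
    Nat.prime_two.coprime_iff_not_dvd.mp (H19.pPrimeCore_coprime 2).symm
  obtain ⟨c, hc⟩ : ∃ c : ℂ, ∀ k : Subgroup.centralizer ({x} : Set G),
      blockCoeff (principalBlock M (Subgroup.centralizer ({x} : Set G))) k =
        if k ∈ K then c else 0 := by
    refine ⟨blockCoeff (principalBlock M (Subgroup.centralizer ({x} : Set G))) 1, fun k => ?_⟩
    split_ifs with hk
    · rw [H40.blockCoeff_eq_sum, H40.blockCoeff_eq_sum]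
      refine congrArg _ (Finset.sum_congr rfl fun ψ hψ => ?_)
      have := H41.mul_eq_of_mem_principalBlock hM K hKodd (Finset.mem_filter.mp hψ).2 hk 1
      rw [one_mul] at this
      rw [this]
    · refine H40.blockCoeff_eq_zero_of_singular hM H41.isPBlock_principalBlock ?_
      by_contra hreg
      exact hk (H41.mem_of_regular_of_index K hnc hreg)
  have hxC : x ∈ Subgroup.centralizer ({x} : Set G) := Subgroup.mem_centralizer_singleton_iff.2 rfl
  have hpx : IsPPart 2 ((⟨x, hxC⟩ : Subgroup.centralizer ({x} : Set G)) : G) x :=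
    ⟨1, mul_one _, Commute.one_right x, hx, by simp⟩
  have hsum : ∀ χ : IrrCharacter G,
      c * ∑ k ∈ Finset.univ.filter (· ∈ K), (χ : G → ℂ) ((k : G) * x) =
        if χ ∈ principalBlock M G then (χ : G → ℂ) x else 0 := by
    intro χ
    rw [← H40.sum_inducingSet_mul hM hx H41.isPBlock_principalBlock hpx χ,
      H41.inducingSet_principalBlock hM hx, Finset.mul_sum, Finset.sum_filter]
    refine Finset.sum_congr rfl fun k _ => ?_
    rw [hc k]
    split_ifs <;> simp
  have hzero : ∀ k ∈ K, ∑ χ : IrrCharacter G,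
      (χ : G → ℂ) ((k : G) * x) * ((χ : G → ℂ) t ^ 2 / (χ : G → ℂ) 1) = 0 := by
    intro k hk
    have hcomm : Commute x (k : G) := (Subgroup.mem_centralizer_singleton_iff.mp k.2).symm
    have hkreg : ¬ 2 ∣ orderOf (k : G) := fun h => hKodd
      (h.trans (by rw [Subgroup.orderOf_coe]; exact Subgroup.orderOf_dvd_natCard K hk))
    have hw : IsPPart 2 ((k : G) * x) x := ⟨k, hcomm.eq, hcomm, hx, hkreg⟩
    have hw' : IsPPart 2 ((k : G) * x)⁻¹ x⁻¹ := by
      refine ⟨(k : G)⁻¹, ?_, hcomm.inv_inv, ?_, ?_⟩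
      · rw [← mul_inv_rev]
      · simpa using hx
      · simpa using hkreg
    have hpc : H42.pairCount t t ((k : G) * x) = 0 := by
      rw [H42.pairCount, Nat.card_eq_zero]
      refine Or.inl ⟨fun ⟨u, hu1, hu2⟩ => ?_⟩
      have sq : ∀ v : G, IsConj v t → v * v = 1 := fun v hv => by
        obtain ⟨g, hg⟩ := isConj_iff.mp hv
        have := pow_orderOf_eq_one t
        rw [ht, pow_two, ← hg] at this
        have h2 : g * (v * v) * g⁻¹ = 1 := by rw [← this]; group
        exact conj_eq_one_iff.mp h2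
      have hu := sq u hu1
      have hv := sq _ hu2
      have e : u * ((k : G) * x) * u⁻¹ = ((k : G) * x)⁻¹ := by
        have huinv : u⁻¹ = u := inv_eq_of_mul_eq_one_right hu
        rw [huinv] at hv ⊢
        refine eq_inv_of_mul_eq_one_left ?_
        calc u * ((k : G) * x) * u * ((k : G) * x)
            = u * ((k : G) * x) * (u * ((k : G) * x)) := by simp [mul_assoc]
          _ = 1 := hv
      have h3 := H40.isPPart_conj u hw
      rw [e] at h3
      exact hinv u (H40.isPPart_unique h3 hw')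
    have h := H42.pairCount_formula t t ((k : G) * x)
    rw [hpc, Nat.cast_zero, eq_comm] at h
    have hne : ((Subgroup.centralizer ({t} : Set G)).index : ℂ) ≠ 0 :=
      Nat.cast_ne_zero.mpr Subgroup.index_ne_zero_of_finite
    have hG : ((Nat.card G : ℂ))⁻¹ ≠ 0 := inv_ne_zero (Nat.cast_ne_zero.mpr Nat.card_pos.ne')
    rw [mul_eq_zero, or_iff_right (mul_ne_zero (mul_ne_zero hne hne) hG)] at h
    rw [← h]
    refine Finset.sum_congr rfl fun χ _ => ?_
    have hreal : conj ((χ : G → ℂ) t) = (χ : G → ℂ) t := by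
      rw [← H26.irr_inv]
      have := pow_orderOf_eq_one t
      rw [ht, pow_two] at this
      rw [inv_eq_of_mul_eq_one_right this]
    rw [hreal]
    ring
  rw [Finset.sum_filter]
  calc _ = ∑ χ : IrrCharacter G, (c * ∑ k ∈ Finset.univ.filter (· ∈ K),
        (χ : G → ℂ) ((k : G) * x)) * ((χ : G → ℂ) t ^ 2 / (χ : G → ℂ) 1) :=
      Finset.sum_congr rfl fun χ _ => by rw [hsum, ite_mul, zero_mul]
    _ = c * ∑ k ∈ Finset.univ.filter (· ∈ K), ∑ χ : IrrCharacter G,
        (χ : G → ℂ) ((k : G) * x) * ((χ : G → ℂ) t ^ 2 / (χ : G → ℂ) 1) := by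
      simp only [Finset.mul_sum, Finset.sum_mul, mul_assoc]
      rw [Finset.sum_comm]
    _ = 0 := by
      rw [Finset.sum_eq_zero fun k hk => hzero k (Finset.mem_filter.mp hk).2, mul_zero]

/-- The section elements have a centraliser with a normal complement to the Sylow subgroup. -/
theorem index_pPrimeCore_centralizer (P : Sylow 2 G)
    (hab : ∀ a ∈ (P : Subgroup G), ∀ b ∈ (P : Subgroup G), a * b = b * a) {x : G}
    (hx : x ∈ (P : Subgroup G))
    (hfix : ∀ n ∈ Subgroup.normalizer (P : Set G), n * x = x * n →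
      n ∈ Subgroup.centralizer (P : Set G)) :
    ∃ k, (pPrimeCore 2 (Subgroup.centralizer ({x} : Set G))).index = 2 ^ k := by
  haveI : Fact (Nat.Prime 2) := ⟨Nat.prime_two⟩
  have hPC : (P : Subgroup G) ≤ Subgroup.centralizer ({x} : Set G) := fun a ha =>
    Subgroup.mem_centralizer_singleton_iff.2 (hab a ha x hx)
  let Q : Sylow 2 (Subgroup.centralizer ({x} : Set G)) := P.subtype hPC
  have hQ : Subgroup.normalizer (Q : Set (Subgroup.centralizer ({x} : Set G))) ≤
      Subgroup.centralizer (Q : Set (Subgroup.centralizer ({x} : Set G))) := by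
    intro n hn a ha
    have hn' : (n : G) ∈ Subgroup.normalizer ((P : Subgroup G) : Set G) := by
      rw [Subgroup.mem_normalizer_iff]
      intro b
      constructor
      · intro hb
        exact ((Subgroup.mem_normalizer_iff.mp hn) ⟨b, hPC hb⟩).mp hb
      · intro hb
        have hmem := hPC hb
        have hbC : b ∈ Subgroup.centralizer ({x} : Set G) := by
          have := mul_mem (mul_mem (inv_mem n.2) hmem) n.2
          simpa [mul_assoc] using this
        exact ((Subgroup.mem_normalizer_iff.mp hn) ⟨b, hbC⟩).mpr hb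
    exact Subtype.ext (hfix _ hn' (Subgroup.mem_centralizer_singleton_iff.mp n.2) a ha)
  have hc := MonoidHom.ker_transferSylow_isComplement' Q hQ
  obtain ⟨k, hk⟩ := (IsPGroup.iff_card.mp Q.isPGroup')
  have hidx : (MonoidHom.transferSylow Q hQ).ker.index = 2 ^ k := by
    rw [hc.symm.index_eq_card]; exact hk
  have hcop : (Nat.card (MonoidHom.transferSylow Q hQ).ker).Coprime 2 := by
    refine ((Nat.prime_two.coprime_iff_not_dvd).2 fun h2 => Q.not_dvd_index ?_).symm
    rwa [hc.index_eq_card]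
  have hle := Subgroup.index_dvd_of_le (H19.le_pPrimeCore
    (MonoidHom.normal_ker (MonoidHom.transferSylow Q hQ)) hcop)
  rw [hidx] at hle
  obtain ⟨j, -, hj⟩ := (Nat.dvd_prime_pow Nat.prime_two).1 hle
  exact ⟨j, hj⟩

/-- If the normalizer induces a group of order three, the group has a non-trivial linear
character. -/
theorem exists_linear_hom (P : Sylow 2 G)
    (hab : ∀ a ∈ (P : Subgroup G), ∀ b ∈ (P : Subgroup G), a * b = b * a)
    (h16 : 16 ∣ Nat.card (P : Subgroup G)) (h4 : ∃ a ∈ (P : Subgroup G), a * a ≠ 1)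
    (h3 : (Subgroup.centralizer (P : Set G)).relIndex (Subgroup.normalizer (P : Set G)) = 3)
    (hfpf : ∀ n ∈ Subgroup.normalizer (P : Set G), n ∉ Subgroup.centralizer (P : Set G) →
      ∀ z ∈ (P : Subgroup G), z ≠ 1 → n * z ≠ z * n) :
    ∃ f : G →* ℂˣ, f ≠ 1 ∧ (P : Subgroup G) ≤ f.ker := by
  classical
  haveI : Fact (Nat.Prime 2) := ⟨Nat.prime_two⟩
  haveI := Fintype.ofFinite G
  letI : CommGroup (P : Subgroup G) :=
    { (inferInstance : Group (P : Subgroup G)) with
      mul_comm := fun a b => Subtype.ext (hab a a.2 b b.2) }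
  haveI : IsMulCommutative (P : Subgroup G) := ⟨⟨fun a b => Subtype.ext (hab a a.2 b b.2)⟩⟩
  set N := Subgroup.normalizer (P : Set G) with hN
  set C := (Subgroup.centralizer (P : Set G)).subgroupOf N with hC
  haveI : C.Normal := by
    refine ⟨fun c hc n => Subgroup.mem_subgroupOf.mpr fun a ha => ?_⟩
    have hcG : (c : G) ∈ Subgroup.centralizer (P : Set G) := Subgroup.mem_subgroupOf.mp hc
    have ha' : (n : G)⁻¹ * a * n ∈ (P : Subgroup G) := by
      have := (Subgroup.mem_normalizer_iff.mp (inv_mem n.2) a).mp ha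
      simpa using this
    have := hcG _ ha'
    simp only [Subgroup.coe_mul, Subgroup.coe_inv]
    calc a * ((n : G) * c * (n : G)⁻¹) = n * ((n : G)⁻¹ * a * n * c) * (n : G)⁻¹ := by group
      _ = n * (c * ((n : G)⁻¹ * a * n)) * (n : G)⁻¹ := by rw [this]
      _ = (n : G) * c * (n : G)⁻¹ * a := by group
  have hcard : Nat.card (N ⧸ C) = 3 := by rw [← Subgroup.index_eq_card]; exact h3
  haveI : Fact (Nat.Prime 3) := ⟨Nat.prime_three⟩
  obtain ⟨n, hn⟩ : ∃ n : N, n ∉ C := by
    by_contra hc
    push Not at hc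
    rw [← Subgroup.index_eq_card, (Subgroup.eq_top_iff' C).mpr hc, Subgroup.index_top] at hcard
    omega
  have hgen : ∀ u : N, ∃ i : ℕ, i < 3 ∧ ∃ c ∈ C, u = n ^ i * c := by
    intro u
    have hne : (n : N ⧸ C) ≠ 1 := fun h => hn ((QuotientGroup.eq_one_iff n).mp h)
    obtain ⟨i, hi⟩ := mem_powers_of_prime_card hcard hne (g' := (u : N ⧸ C))
    have h3' : (n : N ⧸ C) ^ 3 = 1 := hcard ▸ pow_card_eq_one'
    refine ⟨i % 3, Nat.mod_lt _ (by norm_num), (n ^ (i % 3))⁻¹ * u, ?_, (mul_inv_cancel_left _ _).symm⟩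
    rw [← QuotientGroup.eq_one_iff, QuotientGroup.mk_mul, QuotientGroup.mk_inv,
      QuotientGroup.mk_pow, ← pow_eq_pow_mod i h3']
    change (n : N ⧸ C) ^ i = u at hi
    rw [hi, inv_mul_cancel]
  have hmem : ∀ y : (P : Subgroup G), (n : G) * y * (n : G)⁻¹ ∈ (P : Subgroup G) := fun y =>
    (Subgroup.mem_normalizer_iff.mp n.2 y).mp y.2
  have hmem' : ∀ y : (P : Subgroup G), (n : G)⁻¹ * y * (n : G) ∈ (P : Subgroup G) := fun y => by
    simpa using (Subgroup.mem_normalizer_iff.mp (inv_mem n.2) y).mp y.2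
  let σ : (P : Subgroup G) ≃* (P : Subgroup G) :=
    { toFun := fun y => ⟨_, hmem y⟩
      invFun := fun y => ⟨_, hmem' y⟩
      left_inv := fun y => Subtype.ext (by group)
      right_inv := fun y => Subtype.ext (by group)
      map_mul' := fun a b => Subtype.ext (by simp only [Subgroup.coe_mul]; group) }
  have hσ : ∀ y, ((σ y : (P : Subgroup G)) : G) = (n : G) * y * (n : G)⁻¹ := fun y => rfl
  have hn3 : n ^ 3 ∈ C := by
    rw [← QuotientGroup.eq_one_iff, QuotientGroup.mk_pow, ← hcard]
    exact pow_card_eq_one'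
  have hσ3 : ∀ y, σ (σ (σ y)) = y := fun y => Subtype.ext (by
    have h := (Subgroup.mem_subgroupOf.mp hn3) (y : G) y.2
    simp only [Subgroup.coe_pow] at h
    rw [hσ, hσ, hσ]
    calc _ = (n : G) ^ 3 * y * ((n : G) ^ 3)⁻¹ := by simp [pow_succ, mul_assoc]
      _ = y := by rw [← h]; group)
  have hfix : ∀ y, σ y = y → y = 1 := by
    intro y hy
    by_contra h1
    refine hfpf n n.2 (fun h => hn (Subgroup.mem_subgroupOf.mpr h)) y y.2
      (fun h => h1 (Subtype.ext h)) ?_
    exact mul_inv_eq_iff_eq_mul.mp ((hσ y).symm.trans (congrArg Subtype.val hy))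
  have hconj : ∀ y : (P : Subgroup G), IsConj (y : G) ((σ y : (P : Subgroup G)) : G) := fun y => isConj_iff.mpr ⟨n, rfl⟩
  have hfus : ∀ a b : (P : Subgroup G), IsConj (a : G) (b : G) →
      b = a ∨ b = σ a ∨ b = σ (σ a) := by
    intro a b h
    obtain ⟨g, hg⟩ := isConj_iff.mp h
    obtain ⟨u, hu, hu'⟩ := P.conj_eq_normalizer_conj_of_mem (a : G) g⁻¹ a.2
      (by rw [inv_inv, hg]; exact b.2)
    rw [inv_inv, hg] at hu'
    obtain ⟨i, hi, c, hc, he⟩ := hgen (⟨u, hu⟩⁻¹)
    have hca : (c : G) * a * (c : G)⁻¹ = a := by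
      rw [← (Subgroup.mem_subgroupOf.mp hc) (a : G) a.2]; group
    have hb : (b : G) = (n : G) ^ i * a * ((n : G) ^ i)⁻¹ := by
      have he' : u⁻¹ = (n : G) ^ i * c := congrArg Subtype.val he
      calc (b : G) = u⁻¹ * a * (u⁻¹)⁻¹ := by rw [inv_inv]; exact hu'
        _ = (n : G) ^ i * ((c : G) * a * (c : G)⁻¹) * ((n : G) ^ i)⁻¹ := by rw [he']; group
        _ = _ := by rw [hca]
    interval_cases i
    · exact Or.inl (Subtype.ext (by simpa using hb))
    · exact Or.inr (Or.inl (Subtype.ext (by simpa [hσ] using hb)))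
    · exact Or.inr (Or.inr (Subtype.ext (by rw [hσ, hσ, hb]; simp [pow_two, mul_assoc])))
  have hdist : ∀ a, a ≠ 1 → a ≠ σ a ∧ a ≠ σ (σ a) ∧ σ a ≠ σ (σ a) := by
    intro a ha
    refine ⟨fun h => ha (hfix a h.symm), fun h => ha (hfix a ?_), fun h => ha ?_⟩
    · conv_lhs => rw [h]
      exact hσ3 a
    · have := hfix _ h.symm
      exact σ.injective (by rw [this, map_one])
  have hninv : ∀ a : (P : Subgroup G), a * a ≠ 1 →
      ∀ u : G, u * a * u⁻¹ ≠ (a : G)⁻¹ := by
    intro a ha u hu
    have hne : a ≠ 1 := fun h => ha (by rw [h, one_mul])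
    rcases hfus a a⁻¹ (isConj_iff.mpr ⟨u, hu⟩) with h | h | h
    · exact ha (by nth_rewrite 1 [← h]; rw [inv_mul_cancel])
    · exact (hdist a hne).2.1 (by rw [← h, map_inv, ← h, inv_inv])
    · refine (hdist a hne).2.2 ?_
      have h1 := congrArg σ h
      rw [hσ3, map_inv, inv_eq_iff_eq_inv] at h1
      rw [← h, h1]
  obtain ⟨M, hM⟩ := H42.exists_isPModular Nat.prime_two
  haveI := hM.2.1
  have hpp : ∀ a : (P : Subgroup G), ∃ k, orderOf (a : G) = 2 ^ k := fun a => by
    obtain ⟨k, hk⟩ := IsPGroup.iff_orderOf.mp P.isPGroup' a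
    exact ⟨k, by rw [Subgroup.orderOf_coe]; exact hk⟩
  have hdvd : ∀ a : (P : Subgroup G), a ≠ 1 → 2 ∣ orderOf (a : G) := fun a ha => by
    obtain ⟨k, hk⟩ := hpp a
    rcases k with _ | k
    · exact absurd (orderOf_eq_one_iff.mp hk) fun h => ha (Subtype.ext h)
    · exact hk ▸ dvd_pow_self 2 k.succ_ne_zero
  have hpart : ∀ a : (P : Subgroup G), IsPPart 2 (a : G) (a : G) := fun a =>
    ⟨1, mul_one _, Commute.one_right _, hpp a, by simp⟩
  have hnc : ∀ a : (P : Subgroup G), a ≠ 1 →
      ∃ k, (pPrimeCore 2 (Subgroup.centralizer ({(a : G)} : Set G))).index = 2 ^ k :=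
    fun a ha => index_pPrimeCore_centralizer P hab a.2 fun u hu hua => by
      by_contra hcon
      exact hfpf u hu hcon a a.2 (fun h => ha (Subtype.ext h)) hua
  set B : Finset (IrrCharacter G) := Finset.univ.filter (· ∈ principalBlock M G) with hB
  have h1 : H26.oneIrr G ∈ principalBlock M G := by
    rw [H41.principalBlock_eq]; exact H41.mem_blockOf_self _
  have hσχ : ∀ (χ : IrrCharacter G) (a : (P : Subgroup G)),
      (χ : G → ℂ) ((σ a : (P : Subgroup G)) : G) = (χ : G → ℂ) (a : G) := fun χ a =>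
    (H26.irr_eq_of_isConj χ (hconj a)).symm
  have hsec : ∀ a b : (P : Subgroup G), a ≠ 1 → b ≠ 1 →
      ∑ χ ∈ B, (χ : G → ℂ) a * conj ((χ : G → ℂ) b) = (Nat.card (P : Subgroup G) : ℂ) *
        ((if b = a then 1 else 0) + (if b = σ a then 1 else 0) +
          (if b = σ (σ a) then 1 else 0)) := by
    intro a b ha hb
    by_cases hcb : IsConj (a : G) (b : G)
    · have hval : ∀ χ : IrrCharacter G, (χ : G → ℂ) b = (χ : G → ℂ) a := fun χ =>
        (H26.irr_eq_of_isConj χ hcb).symm
      have hone : ((if b = a then 1 else 0) + (if b = σ a then 1 else 0) +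
          (if b = σ (σ a) then 1 else 0) : ℂ) = 1 := by
        obtain ⟨d1, d2, d3⟩ := hdist a ha
        rcases hfus a b hcb with rfl | rfl | rfl
        · simp [d1, d2]
        · simp [d1.symm, d3]
        · simp [d2.symm, d3.symm]
      rw [hone, mul_one]
      have h47 := (Cfsg.Agent.S0947.result 2 M hM (a : G) (hpp a) (fun h => ha (Subtype.ext h)) 1
        (by simp)).2 (hnc a ha)
      rw [finsum_mem_eq_finite_toFinset_sum _ (Set.toFinite _)] at h47
      have hfac : 2 ^ (Nat.card (Subgroup.centralizer ({(a : G)} : Set G))).factorization 2 =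
          Nat.card (P : Subgroup G) := by
        have hPC : (P : Subgroup G) ≤ Subgroup.centralizer ({(a : G)} : Set G) := fun c hc =>
          Subgroup.mem_centralizer_singleton_iff.2 (hab c hc a a.2)
        rw [← (P.subtype hPC).card_eq_multiplicity]
        exact Nat.card_congr (Subgroup.subgroupOfEquivOfLe hPC).toEquiv
      rw [hfac] at h47
      have h48 := congrArg (fun r : ℝ => (r : ℂ)) h47
      push_cast at h48
      rw [← h48]
      refine Finset.sum_congr (by ext; simp [hB]) fun χ _ => ?_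
      rw [hval, Complex.mul_conj']
      simp
    · rw [hB, H40.sum_block_mul_conj_eq_zero_of_section hM H41.isPBlock_principalBlock (hpart a)
        (hpart b) hcb]
      have e1 : b ≠ a := fun h => hcb (h ▸ IsConj.refl _)
      have e2 : b ≠ σ a := fun h => hcb (h ▸ hconj a)
      have e3 : b ≠ σ (σ a) := fun h => hcb (h ▸ (hconj a).trans (hconj _))
      simp [e1, e2, e3]
  have hdeg : ∀ a : (P : Subgroup G), a ≠ 1 →
      ∑ χ ∈ B, (χ : G → ℂ) a * (χ : G → ℂ) 1 = 0 := by
    intro a ha
    have h := H40.sum_block_mul_conj_eq_zero hM (H41.isPBlock_principalBlock (G := G) (M := M))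
      (x := 1) (y := (a : G)⁻¹) (by simp) (by rw [orderOf_inv]; exact hdvd a ha)
    rw [← h, hB]
    exact Finset.sum_congr rfl fun χ _ => by rw [← H26.irr_inv, inv_inv, mul_comm]
  obtain ⟨t, ht⟩ := exists_prime_orderOf_dvd_card' (G := (P : Subgroup G)) 2
    ((dvd_trans (by norm_num) h16 : 2 ∣ Nat.card (P : Subgroup G)))
  have ht1 : t ≠ 1 := fun h => by simp [h] at ht
  have ht2 : t * t = 1 := by
    have := pow_orderOf_eq_one t
    rwa [ht, pow_two] at this
  obtain ⟨a₀, ha₀P, ha₀⟩ := h4
  obtain ⟨χ, hχB, hχne, hχ1⟩ := exists_linear (P : Subgroup G).subtype σ hσ3 hfix h16 B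
    (Finset.mem_filter.mpr ⟨Finset.mem_univ _, h1⟩) hσχ (fun x y hx hy => by convert hsec x y hx hy using 6 <;> rfl) hdeg ht1 ht2
    (a₀ := ⟨a₀, ha₀P⟩) (fun h => ha₀ (congrArg Subtype.val h))
    (fun a ha => sum_block_cube hM (hpp a) (hnc a fun h => ha (by rw [h, one_mul]))
      (by rw [Subgroup.subtype_apply, Subgroup.orderOf_coe]; exact ht) (hninv a ha))
  obtain ⟨f, hf⟩ := H26.exists_hom_of_isCharacter_one (H26.irr_isCharacter χ) hχ1
  refine ⟨f, fun h => hχne (Subtype.ext (funext fun g => ?_)), fun z hz => ?_⟩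
  · rw [← hf, h, H26.oneIrr_val]; simp
  · have hinj : Function.Injective fun a : (P : Subgroup G) => a⁻¹ * σ a := by
      intro a b h
      have h' : a⁻¹ * σ a = b⁻¹ * σ b := h
      refine mul_inv_eq_one.mp (hfix _ ?_)
      rw [map_mul, map_inv]
      calc σ a * (σ b)⁻¹ = a * (a⁻¹ * σ a) * (σ b)⁻¹ := by group
        _ = a * (b⁻¹ * σ b) * (σ b)⁻¹ := by rw [h']
        _ = a * b⁻¹ := by group
    obtain ⟨a, ha⟩ := Finite.injective_iff_surjective.mp hinj ⟨z, hz⟩
    have e : z = (a : G)⁻¹ * ((n : G) * a * (n : G)⁻¹) := by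
      rw [← hσ]; exact (congrArg Subtype.val ha).symm
    rw [MonoidHom.mem_ker, e]
    simp

universe u

theorem brauer_aux (m : ℕ) (hm : 2 ≤ m) : ∀ (k : ℕ) (G : Type u) [Group G] [Finite G],
    Nat.card G ≤ k → ∀ (P : Sylow 2 G)
      (_ : (P : Subgroup G) ≃* Multiplicative (ZMod (2 ^ m) × ZMod (2 ^ m))),
      (∀ N : Subgroup G, N.Normal → Odd (Nat.card N) → N = ⊥) →
      (P : Subgroup G).Normal ∧ Subgroup.centralizer (P : Set G) = (P : Subgroup G) ∧
        ((P : Subgroup G).index = 1 ∨ (P : Subgroup G).index = 3) := by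
  intro k
  induction k with
  | zero => intro G _ _ h; have := Nat.card_pos (α := G); omega
  | succ k ih =>
    intro G _ _ hk P e hO
    haveI : Fact (Nat.Prime 2) := ⟨Nat.prime_two⟩
    haveI : NeZero (2 ^ m) := ⟨pow_ne_zero _ two_ne_zero⟩
    have hab : ∀ a ∈ (P : Subgroup G), ∀ b ∈ (P : Subgroup G), a * b = b * a := fun a ha b hb => by
      have : (⟨a, ha⟩ : (P : Subgroup G)) * ⟨b, hb⟩ = ⟨b, hb⟩ * ⟨a, ha⟩ :=
        e.injective (by rw [map_mul, map_mul, mul_comm])
      exact congrArg Subtype.val this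
    have hPC : (P : Subgroup G) ≤ Subgroup.centralizer (P : Set G) := fun a ha b hb => hab b hb a ha
    have hcard : Nat.card (P : Subgroup G) = 2 ^ m * 2 ^ m := by
      rw [Nat.card_congr e.toEquiv, Nat.card_congr Multiplicative.toAdd, Nat.card_prod,
        Nat.card_zmod]
    rcases H41.homocyclic_sylow_normalizer P (by omega : 1 ≤ m) e with h | ⟨h3, hfpf, -⟩
    · have hle := Subgroup.relIndex_eq_one.mp h
      have hc := MonoidHom.ker_transferSylow_isComplement' P hle
      have hbot : (MonoidHom.transferSylow P hle).ker = ⊥ := by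
        refine hO _ (MonoidHom.normal_ker _) ?_
        rw [← Nat.not_even_iff_odd, even_iff_two_dvd, ← hc.index_eq_card]
        exact P.not_dvd_index
      have htop : (P : Subgroup G) = ⊤ := by
        rw [← Subgroup.index_eq_one, hc.index_eq_card, hbot, Subgroup.card_bot]
      refine ⟨by rw [htop]; infer_instance, ?_, Or.inl (by rw [htop, Subgroup.index_top])⟩
      refine le_antisymm ?_ hPC
      rw [htop]
      exact le_top
    · have h16 : 16 ∣ Nat.card (P : Subgroup G) := by
        rw [hcard, ← pow_add, show 16 = 2 ^ 4 by norm_num]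
        exact pow_dvd_pow 2 (by omega)
      have h4 : ∃ a ∈ (P : Subgroup G), a * a ≠ 1 := by
        refine ⟨(e.symm (Multiplicative.ofAdd (1, 0)) : G), Subtype.coe_prop _, fun h => ?_⟩
        have h' : e.symm (Multiplicative.ofAdd ((1 : ZMod (2 ^ m)), (0 : ZMod (2 ^ m)))) *
            e.symm (Multiplicative.ofAdd (1, 0)) = 1 := Subtype.ext (by simpa using h)
        rw [← map_mul, MulEquiv.map_eq_one_iff, ← ofAdd_add, ofAdd_eq_one] at h'
        have h2 : ((2 : ℕ) : ZMod (2 ^ m)) = 0 := by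
          simpa [one_add_one_eq_two] using congrArg Prod.fst h'
        rw [ZMod.natCast_eq_zero_iff] at h2
        have : 2 ^ 2 ≤ 2 ^ m := Nat.pow_le_pow_right (by norm_num) hm
        have := Nat.le_of_dvd (by norm_num) h2
        omega
      obtain ⟨f, hf1, hPK⟩ := exists_linear_hom P hab h16 h4 h3 hfpf
      set K := f.ker with hKdef
      haveI : K.Normal := MonoidHom.normal_ker f
      have hKlt : Nat.card K ≤ k := by
        have hne : K ≠ ⊤ := fun h => hf1 (MonoidHom.ker_eq_top_iff.mp h)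
        have := Subgroup.card_le_card_group (H := K)
        have hne' : Nat.card K ≠ Nat.card G := fun h => hne (Subgroup.eq_top_of_card_eq K h)
        omega
      obtain ⟨hn, -, -⟩ := ih K hKlt (P.subtype hPK)
        ((Subgroup.subgroupOfEquivOfLe hPK).trans e)
        (fun N hN hodd => eq_bot_of_odd_of_normal hO K N hN hodd)
      haveI : (P : Subgroup G).Normal := by
        haveI := (P.subtype hPK).characteristic_of_normal hn
        have hh : ((P.subtype hPK : Sylow 2 K) : Subgroup K).map K.subtype = (P : Subgroup G) :=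
          Subgroup.map_subgroupOf_eq_of_le hPK
        rw [← hh]
        exact ConjAct.normal_of_characteristic_of_normal
      have hN : Subgroup.normalizer (P : Set G) = ⊤ := Subgroup.normalizer_eq_top_iff.mpr inferInstance
      rw [hN, Subgroup.relIndex_top_right] at h3
      set C := Subgroup.centralizer (P : Set G) with hC
      haveI : C.Normal := Subgroup.normal_centralizer
      have hQ : Subgroup.normalizer ((P.subtype hPC) : Set C) ≤
          Subgroup.centralizer ((P.subtype hPC) : Set C) := fun c _ a ha =>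
        Subtype.ext (c.2 a ha)
      have hc := MonoidHom.ker_transferSylow_isComplement' (P.subtype hPC) hQ
      have hbot : (MonoidHom.transferSylow (P.subtype hPC) hQ).ker = ⊥ := by
        refine eq_bot_of_odd_of_normal hO C _ (MonoidHom.normal_ker _) ?_
        rw [← Nat.not_even_iff_odd, even_iff_two_dvd, ← hc.index_eq_card]
        exact (P.subtype hPC).not_dvd_index
      have htop : ((P.subtype hPC : Sylow 2 C) : Subgroup C) = ⊤ := by
        rw [← Subgroup.index_eq_one, hc.index_eq_card, hbot, Subgroup.card_bot]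
      have hCP : C = (P : Subgroup G) := le_antisymm (Subgroup.subgroupOf_eq_top.mp htop) hPC
      exact ⟨inferInstance, hCP, Or.inr (hCP ▸ h3)⟩

end Cfsg.Agent.H52.Homocyclic
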