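import Cfsg.Agent.S5212
import Cfsg.Agent.H93.Group
import Cfsg.Agent.H22.Frobenius
import Cfsg.Agent.H19.Cores
import Cfsg.Agent.H52.Homocyclic.Main

/-!
Groups with a metacyclic Sylow 2-subgroup having a cyclic quotient of order greater than two by a
cyclic normal subgroup are soluble, granted that groups of odd order are.
-/

set_option autoImplicit false

namespace Cfsg.Agent.H52.Homocyclic

open Cfsg

universe u

/-- The groups of odd order in this universe are soluble. -/
def OddSoluble : Prop :=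
  ∀ (H : Type u) [Group H] [Finite H], Odd (Nat.card H) → Group.IsSolvable H

variable {G : Type u} [Group G] [Finite G]

theorem isSolvable_of_hasNormalPComplement_two (hft : OddSoluble.{u})
    (h : HasNormalPComplement 2 G) : Group.IsSolvable G := by
  haveI : Fact (Nat.Prime 2) := ⟨Nat.prime_two⟩
  obtain ⟨P, N, hN, hc⟩ := h
  haveI := hN
  haveI : Group.IsSolvable N := hft N (by
    rw [← Nat.not_even_iff_odd, even_iff_two_dvd, ← hc.symm.symm.index_eq_card]
    exact P.not_dvd_index)
  haveI : Group.IsNilpotent (P : Subgroup G) := P.2.isNilpotent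
  haveI : Group.IsSolvable (G ⧸ N) :=
    Group.isSolvable_of_surjective (f := (QuotientGroup.mk' N).comp (P : Subgroup G).subtype) (by
      intro y
      obtain ⟨g, rfl⟩ := QuotientGroup.mk'_surjective N y
      obtain ⟨⟨a, b⟩, rfl⟩ := (hc.existsUnique g).exists
      exact ⟨b, by simp⟩)
  exact (Group.isSolvable_iff_subgroup_quotient N).mpr ⟨inferInstance, inferInstance⟩

theorem hasNormalPComplement_two_of_isCyclic (P : Sylow 2 G) (hP : IsCyclic (P : Subgroup G)) :
    HasNormalPComplement 2 G := by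
  haveI : Fact (Nat.Prime 2) := ⟨Nat.prime_two⟩
  by_cases h2 : 2 ∣ Nat.card G
  · exact ⟨P, _, MonoidHom.normal_ker _, MonoidHom.ker_transferSylow_isComplement' P
      (IsCyclic.normalizer_le_centralizer ((Nat.minFac_eq_two_iff _).mpr h2) hP)⟩
  · have hbot : (P : Subgroup G) = ⊥ := by
      obtain ⟨k, hk⟩ := P.2.exists_card_eq
      rcases k with _ | k
      · exact Subgroup.card_eq_one.mp hk
      · exact absurd ((hk ▸ dvd_pow_self 2 k.succ_ne_zero : 2 ∣ Nat.card P).trans
          (Subgroup.card_subgroup_dvd_card _)) h2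
    exact ⟨P, ⊤, inferInstance, by rw [hbot]; exact Subgroup.isComplement'_top_bot⟩

/-- A non-homocyclic, non-dihedral, non-quaternion, non-semidihedral metacyclic Sylow 2-subgroup
has a normal complement. -/
theorem hasNormalPComplement_of_metacyclic (S : Sylow 2 G) (hm : IsMetacyclic (S : Subgroup G))
    (hh : ¬ ∃ n k : ℕ, Nonempty ((S : Subgroup G) ≃* Multiplicative (Fin k → ZMod (2 ^ n))))
    (hd : ¬ ∃ m : ℕ, Nonempty ((S : Subgroup G) ≃* DihedralGroup m))
    (hq : ¬ ∃ m : ℕ, Nonempty ((S : Subgroup G) ≃* QuaternionGroup m))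
    (hsd : ¬ IsQuasiDihedral (S : Subgroup G)) : HasNormalPComplement 2 G := by
  haveI : Fact (Nat.Prime 2) := ⟨Nat.prime_two⟩
  have hF := Agent.S5212.result S.2 (groupFusionSystem (S : Subgroup G))
    (H93.isSaturated_groupFusionSystem S) hm hh hd hq hsd
  refine H22.hasNormalPComplement_of_no_fusion S fun x hx g hgx => ?_
  have hle : Subgroup.zpowers x ≤ (S : Subgroup G) := Subgroup.zpowers_le.mpr hx
  have hmem : conjHom (Subgroup.zpowers x) g ∈
      (groupFusionSystem (S : Subgroup G)).Hom (Subgroup.zpowers x) := by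
    refine ⟨hle, fun y => ?_, g, fun y => rfl⟩
    obtain ⟨n, hn⟩ := Subgroup.mem_zpowers_iff.mp y.2
    show g * (y : G) * g⁻¹ ∈ (S : Subgroup G)
    rw [← hn, ← conj_zpow]
    exact zpow_mem hgx n
  rw [hF] at hmem
  obtain ⟨-, z, hz, hzx⟩ := hmem
  exact ⟨z, hz, (hzx ⟨x, Subgroup.mem_zpowers x⟩).symm⟩

/-- A group all of whose images in abelian groups have exponent two has no cyclic quotient of order
greater than two. -/
theorem card_quotient_le_two {S : Type*} [Group S] (N : Subgroup S) [N.Normal]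
    (hc : IsCyclic (S ⧸ N)) (h : ∀ (a b : S ⧸ N), a * b = b * a → ∀ x : S, (x : S ⧸ N) * x = 1) :
    Nat.card (S ⧸ N) ≤ 2 := by
  obtain ⟨g, hg⟩ := hc.exists_generator
  obtain ⟨x, rfl⟩ := QuotientGroup.mk_surjective g
  have h2 : (x : S ⧸ N) ^ 2 = 1 := by rw [pow_two]; exact h 1 1 rfl x
  rw [← orderOf_eq_card_of_forall_mem_zpowers hg]
  exact orderOf_le_of_pow_eq_one two_pos h2

theorem mul_self_dihedral {m : ℕ} {A : Type*} [CommGroup A] (f : DihedralGroup m →* A)
    (x : DihedralGroup m) : f x * f x = 1 := by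
  have hs : ∀ i, f (.sr i) * f (.sr i) = 1 := fun i => by
    rw [← map_mul, DihedralGroup.sr_mul_self, map_one]
  rcases x with i | i
  · rw [show DihedralGroup.r i = .sr 0 * .sr i by simp, map_mul, mul_mul_mul_comm, hs, hs, one_mul]
  · exact hs i

theorem mul_self_quaternion {m : ℕ} (hm : Even m) {A : Type*} [CommGroup A]
    (f : QuaternionGroup m →* A) (x : QuaternionGroup m) : f x * f x = 1 := by
  have hs : ∀ i, f (.xa i) * f (.xa i) = f (.a (m : ℕ)) := fun i => by
    rw [← map_mul, QuaternionGroup.xa_mul_xa]; congr 2; simp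
  have ha : ∀ i, f (.a i) * f (.a i) = 1 := fun i => by
    have e : QuaternionGroup.xa (0 : ZMod (2 * m)) * .a i = .a (-i) * .xa 0 := by simp
    have h := congrArg f e
    rw [map_mul, map_mul, mul_comm (f (.a (-i)))] at h
    have h2 := mul_left_cancel h
    calc f (.a i) * f (.a i) = f (.a i) * f (.a (-i)) := by rw [← h2]
      _ = 1 := by
        rw [← map_mul, QuaternionGroup.a_mul_a, add_neg_cancel, ← QuaternionGroup.one_def, map_one]
  have hn : f (.a (m : ℕ)) = 1 := by
    obtain ⟨k, hk⟩ := hm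
    have e : (QuaternionGroup.a ((m : ℕ) : ZMod (2 * m))) = .a (k : ℕ) * .a (k : ℕ) := by
      rw [QuaternionGroup.a_mul_a, ← Nat.cast_add, ← hk]
    rw [e, map_mul, ha]
  rcases x with i | i
  · exact ha i
  · rw [hs, hn]

theorem mul_self_quasiDihedral {S : Type*} [Group S] [Finite S] (hS : IsQuasiDihedral S)
    {A : Type*} [CommGroup A] (f : S →* A) (z : S) : f z * f z = 1 := by
  obtain ⟨n, hn, hcard, x, y, hx, hy, hxy⟩ := hS
  have hy2 : y ^ 2 = 1 := hy ▸ pow_orderOf_eq_one y
  have h4 : 4 ∣ 2 ^ (n - 1) := by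
    rw [show (4 : ℕ) = 2 ^ 2 by norm_num]; exact pow_dvd_pow 2 (by omega)
  have hge : 4 ≤ 2 ^ (n - 1) := Nat.le_of_dvd (by positivity) h4
  have hfx : f x * f x = 1 := by
    have h := congrArg f hxy
    rw [map_mul, map_mul, map_inv, map_pow, mul_comm (f y), mul_inv_cancel_right] at h
    have h1 : f x ^ (2 ^ (n - 1) - 2) = 1 := by
      have h' : f x * f x ^ (2 ^ (n - 1) - 2) = f x * 1 := by
        rw [mul_one, ← pow_succ', show 2 ^ (n - 1) - 2 + 1 = 2 ^ (n - 1) - 1 by omega, ← h]
      exact mul_left_cancel h'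
    have h2 : f x ^ 2 ^ n = 1 := by rw [← map_pow, ← hx, pow_orderOf_eq_one, map_one]
    have hg : Nat.gcd (2 ^ (n - 1) - 2) (2 ^ n) = 2 := by
      obtain ⟨c, hc⟩ := h4
      have hodd : ¬ 2 ∣ 2 * c - 1 := by omega
      rw [show 2 ^ (n - 1) - 2 = 2 * (2 * c - 1) by omega,
        show 2 ^ n = 2 * 2 ^ (n - 1) by rw [← pow_succ']; congr 1; omega, Nat.gcd_mul_left,
        ((Nat.prime_two.coprime_iff_not_dvd.mpr hodd).symm.pow_right (n - 1)).gcd_eq_one]
    have := pow_gcd_eq_one.2 ⟨h1, h2⟩
    rwa [hg, pow_two] at this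
  have hgen : Subgroup.closure ({x, y} : Set S) = ⊤ := by
    set H := Subgroup.closure ({x, y} : Set S)
    have hxH : Subgroup.zpowers x ≤ H := Subgroup.zpowers_le.mpr (Subgroup.subset_closure (by simp))
    have hyn : y ∉ Subgroup.zpowers x := by
      intro hy'
      obtain ⟨k, hk⟩ := Subgroup.mem_zpowers_iff.mp hy'
      have hc : y * x * y⁻¹ = x := by rw [← hk]; group
      have hp : x ^ (2 ^ (n - 1) - 2) = 1 := by
        have h' : x * x ^ (2 ^ (n - 1) - 2) = x * 1 := by
          rw [mul_one, ← pow_succ', show 2 ^ (n - 1) - 2 + 1 = 2 ^ (n - 1) - 1 by omega, ← hxy, hc]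
        exact mul_left_cancel h'
      have hd := Nat.le_of_dvd (by omega) (orderOf_dvd_of_pow_eq_one hp)
      have : 2 ^ (n - 1) ≤ 2 ^ n := Nat.pow_le_pow_right two_pos (by omega)
      omega
    refine Subgroup.eq_top_of_card_eq H ?_
    have h1 : 2 ^ n ∣ Nat.card H := hx ▸ (Nat.card_zpowers x ▸ Subgroup.card_dvd_of_le hxH)
    have h2 : Nat.card H ≠ 2 ^ n := fun he => hyn (by
      rw [Subgroup.eq_of_le_of_card_ge hxH (by rw [Nat.card_zpowers, hx, he])]
      exact Subgroup.subset_closure (by simp))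
    obtain ⟨c, hc⟩ := h1
    have h3 : Nat.card H ∣ 2 ^ n * 2 := by
      rw [← pow_succ, ← hcard]; exact H.card_subgroup_dvd_card
    rw [hc, Nat.mul_dvd_mul_iff_left (by positivity), Nat.dvd_prime Nat.prime_two] at h3
    rcases h3 with rfl | rfl
    · exact absurd (by rw [hc, mul_one]) h2
    · rw [hc, hcard, pow_succ]
  have hle : ⊤ ≤ ((powMonoidHom 2).comp f).ker := by
    rw [← hgen, Subgroup.closure_le]
    rintro w (rfl | rfl)
    · simpa [pow_two] using hfx
    · simp [← map_pow, hy2]
  simpa [pow_two] using hle (Subgroup.mem_top z)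

theorem isSolvable_of_metacyclic (hft : OddSoluble.{u}) (S : Sylow 2 G)
    (N : Subgroup (S : Subgroup G)) [N.Normal] (hNc : IsCyclic N)
    (hQc : IsCyclic ((S : Subgroup G) ⧸ N)) (hQ : 2 < Nat.card ((S : Subgroup G) ⧸ N)) :
    Group.IsSolvable G := by
  classical
  haveI : Fact (Nat.Prime 2) := ⟨Nat.prime_two⟩
  letI : CommGroup ((S : Subgroup G) ⧸ N) := hQc.commGroup
  have hexp : (∀ x : (S : Subgroup G), (x : (S : Subgroup G) ⧸ N) * x = 1) → False := fun h => by
    have := card_quotient_le_two N hQc (fun _ _ _ => h)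
    omega
  by_cases hd : ∃ m : ℕ, Nonempty ((S : Subgroup G) ≃* DihedralGroup m)
  · obtain ⟨m, ⟨e⟩⟩ := hd
    exact (hexp fun x => by
      simpa using mul_self_dihedral ((QuotientGroup.mk' N).comp e.symm.toMonoidHom) (e x)).elim
  by_cases hsd : IsQuasiDihedral (S : Subgroup G)
  · exact (hexp fun x => mul_self_quasiDihedral hsd (QuotientGroup.mk' N) x).elim
  by_cases hq : ∃ m : ℕ, Nonempty ((S : Subgroup G) ≃* QuaternionGroup m)
  · obtain ⟨m, ⟨e⟩⟩ := hq
    by_cases hev : Even m
    · exact (hexp fun x => by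
        simpa using mul_self_quaternion hev ((QuotientGroup.mk' N).comp e.symm.toMonoidHom)
          (e x)).elim
    · -- the degenerate case of a cyclic group of order four
      obtain rfl : m = 1 := by
        haveI : Finite (QuaternionGroup m) := Finite.of_equiv _ e.toEquiv
        obtain ⟨k, hk⟩ := S.2.exists_card_eq
        have hodd : m % 2 = 1 := Nat.odd_iff.mp (Nat.not_even_iff_odd.mp hev)
        haveI : NeZero m := ⟨by omega⟩
        have hc4 : 4 * m = 2 ^ k := by
          rw [← hk, Nat.card_congr e.toEquiv, Nat.card_eq_fintype_card, QuaternionGroup.card]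
        have hdvd : m ∣ 2 ^ k := ⟨4, by rw [← hc4, mul_comm]⟩
        exact Nat.Coprime.eq_one_of_dvd (Nat.Coprime.pow_right k
          (Nat.coprime_two_right.mpr (Nat.odd_iff.mpr hodd))) hdvd
      exact isSolvable_of_hasNormalPComplement_two hft
        (hasNormalPComplement_two_of_isCyclic S (MulEquiv.isCyclic e |>.mpr QuaternionGroup.quaternionGroup_one_isCyclic))
  by_cases hh : ∃ n k : ℕ, Nonempty ((S : Subgroup G) ≃* Multiplicative (Fin k → ZMod (2 ^ n)))
  swap
  · exact isSolvable_of_hasNormalPComplement_two hft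
      (hasNormalPComplement_of_metacyclic S ⟨N, inferInstance, hNc, hQc⟩ hh hd hq hsd)
  obtain ⟨n, k, ⟨e⟩⟩ := hh
  haveI : NeZero (2 ^ n) := ⟨pow_ne_zero _ two_ne_zero⟩
  have hn2 : 2 ≤ n := by
    by_contra hn
    refine hexp fun x => ?_
    have hx : x * x = 1 := e.injective (by
      rw [map_mul, map_one]
      refine Multiplicative.toAdd.injective (funext fun i => ?_)
      show (e x).toAdd i + (e x).toAdd i = 0
      have : ∀ y : ZMod (2 ^ n), y + y = 0 := by interval_cases n <;> decide
      exact this _)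
    rw [← QuotientGroup.mk_mul, hx, QuotientGroup.mk_one]
  have hk2 : k ≤ 2 := by
    -- at most four solutions of `x * x = 1`
    let T := {x : (S : Subgroup G) // x * x = 1}
    have hT : Nat.card T ≤ 4 := by
      haveI := Fintype.ofFinite (S : Subgroup G)
      rw [Nat.card_eq_fintype_card, Fintype.card_subtype]
      have hNsq : ∀ g : (S : Subgroup G) ⧸ N, (Finset.univ.filter fun x : (S : Subgroup G) =>
          x * x = 1 ∧ (x : (S : Subgroup G) ⧸ N) = g).card ≤ 2 := by
        intro g
        by_cases he : ∃ x₀ : (S : Subgroup G), x₀ * x₀ = 1 ∧ (x₀ : (S : Subgroup G) ⧸ N) = g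
        · obtain ⟨x₀, hx₀, rfl⟩ := he
          haveI := hNc
          have hab : ∀ a b : (S : Subgroup G), a * b = b * a := fun a b =>
            e.injective (by rw [map_mul, map_mul, mul_comm])
          refine le_trans (Finset.card_le_card_of_injOn
            (fun x => if h : x₀⁻¹ * x ∈ N then (⟨_, h⟩ : N) else 1)
            (t := Finset.univ.filter fun y : N => y ^ 2 = 1) ?_ ?_)
            (IsCyclic.card_pow_eq_one_le two_pos)
          · intro x hx
            simp only [Finset.coe_filter, Finset.mem_univ, true_and, Set.mem_setOf_eq] at hx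
            have hm := QuotientGroup.eq.mp hx.2.symm
            simp only [Finset.coe_filter, Finset.mem_univ, true_and, Set.mem_setOf_eq, dif_pos hm]
            refine Subtype.ext ?_
            show (x₀⁻¹ * x) ^ 2 = 1
            rw [(show Commute x₀⁻¹ x from hab _ _).mul_pow, pow_two, pow_two, ← mul_inv_rev, hx₀,
              hx.1, inv_one, one_mul]
          · intro x hx y hy h
            simp only [Finset.coe_filter, Finset.mem_univ, true_and, Set.mem_setOf_eq] at hx hy
            simp only [dif_pos (QuotientGroup.eq.mp hx.2.symm),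
              dif_pos (QuotientGroup.eq.mp hy.2.symm), Subtype.mk.injEq, mul_right_inj] at h
            exact h
        · push Not at he
          rw [Finset.card_eq_zero.mpr (Finset.filter_eq_empty_iff.mpr fun x _ h => he x h.1 h.2)]
          norm_num
      haveI := Fintype.ofFinite ((S : Subgroup G) ⧸ N)
      haveI := hQc
      refine le_trans (Finset.card_le_mul_card_image (f := fun x : (S : Subgroup G) =>
        (x : (S : Subgroup G) ⧸ N)) _ 2 fun g _ => ?_) ?_
      · rw [Finset.filter_filter]; exact hNsq g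
      · refine le_trans (Nat.mul_le_mul_left 2 (Finset.card_le_card
          (t := Finset.univ.filter fun g : (S : Subgroup G) ⧸ N => g ^ 2 = 1) ?_))
          (le_trans (Nat.mul_le_mul_left 2 (IsCyclic.card_pow_eq_one_le two_pos)) le_rfl)
        intro g hg
        obtain ⟨x, hx, rfl⟩ := Finset.mem_image.mp hg
        refine Finset.mem_filter.mpr ⟨Finset.mem_univ _, ?_⟩
        rw [pow_two, ← QuotientGroup.mk_mul, (Finset.mem_filter.mp hx).2, QuotientGroup.mk_one]
    let F : (Fin k → Bool) → T := fun b =>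
      ⟨e.symm (Multiplicative.ofAdd fun i => if b i then ((2 ^ (n - 1) : ℕ) : ZMod (2 ^ n)) else 0), by
        rw [← map_mul, MulEquiv.map_eq_one_iff, ← ofAdd_add, ofAdd_eq_one]
        funext i
        simp only [Pi.add_apply, Pi.zero_apply]
        split_ifs
        · rw [← Nat.cast_add, ← two_mul, ← pow_succ', Nat.sub_add_cancel (by omega),
            ZMod.natCast_self]
        · exact add_zero 0⟩
    have hne : ((2 ^ (n - 1) : ℕ) : ZMod (2 ^ n)) ≠ 0 := by
      rw [Ne, ZMod.natCast_eq_zero_iff]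
      intro h
      have := Nat.le_of_dvd (by positivity) h
      have : 2 ^ (n - 1) < 2 ^ n := Nat.pow_lt_pow_right (by norm_num) (by omega)
      omega
    have hF : Function.Injective F := fun b b' h => by
      have h' := Multiplicative.ofAdd.injective (e.symm.injective (congrArg Subtype.val h))
      funext i
      have := congrFun h' i
      cases hb : b i <;> cases hb' : b' i <;>
        simp only [hb, hb', if_true, Bool.false_eq_true, if_false] at this ⊢
      · exact (hne this.symm).elim
      · exact (hne this).elim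
    have := Nat.card_le_card_of_injective F hF
    rw [Nat.card_eq_fintype_card, Fintype.card_pi] at this
    simp at this
    by_contra hk
    have : 2 ^ 3 ≤ 2 ^ k := Nat.pow_le_pow_right two_pos (by omega)
    omega
  rcases Nat.lt_or_ge k 2 with hk1 | hk1
  · refine isSolvable_of_hasNormalPComplement_two hft (hasNormalPComplement_two_of_isCyclic S ?_)
    refine (MulEquiv.isCyclic e).mpr ?_
    interval_cases k
    · infer_instance
    · exact (MulEquiv.isCyclic (AddEquiv.toMultiplicative
        (LinearEquiv.funUnique (Fin 1) ℤ (ZMod (2 ^ n))).toAddEquiv)).mpr inferInstance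
  obtain rfl : k = 2 := by omega
  haveI : (pPrimeCore 2 G).Normal := H19.pPrimeCore_normal 2 G
  haveI : Group.IsSolvable (pPrimeCore 2 G) :=
    hft _ (Nat.coprime_two_right.mp (H19.pPrimeCore_coprime 2))
  let π := QuotientGroup.mk' (pPrimeCore 2 G)
  let P' : Sylow 2 (G ⧸ pPrimeCore 2 G) := S.mapSurjective (QuotientGroup.mk'_surjective _)
  have hinj : Function.Injective (π.comp (S : Subgroup G).subtype) := by
    rw [injective_iff_map_eq_one]
    intro x hx
    have hxO : (x : G) ∈ pPrimeCore 2 G := (QuotientGroup.eq_one_iff _).mp hx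
    obtain ⟨j, hj⟩ := IsPGroup.iff_orderOf.mp S.2 x
    have h1 : orderOf (x : G) ∣ Nat.card (pPrimeCore 2 G) :=
      Subgroup.orderOf_dvd_natCard _ hxO
    rw [Subgroup.orderOf_coe, hj] at h1
    have h2 := Nat.Coprime.eq_one_of_dvd
      (((Nat.coprime_two_right.mpr (Nat.coprime_two_right.mp (H19.pPrimeCore_coprime 2))).symm).pow_left j) h1
    exact orderOf_eq_one_iff.mp (hj.trans h2)
  have hrange : (P' : Subgroup (G ⧸ pPrimeCore 2 G)) = (π.comp (S : Subgroup G).subtype).range := by
    rw [MonoidHom.range_comp, Subgroup.range_subtype]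
    rfl
  let e2 : Multiplicative (Fin 2 → ZMod (2 ^ n)) ≃*
      Multiplicative (ZMod (2 ^ n) × ZMod (2 ^ n)) :=
    AddEquiv.toMultiplicative (LinearEquiv.finTwoArrow ℤ (ZMod (2 ^ n))).toAddEquiv
  let e' : (P' : Subgroup (G ⧸ pPrimeCore 2 G)) ≃* Multiplicative (ZMod (2 ^ n) × ZMod (2 ^ n)) :=
    (MulEquiv.subgroupCongr hrange).trans
      ((MonoidHom.ofInjective hinj).symm.trans (e.trans e2))
  obtain ⟨hPn, -, hidx⟩ := brauer_aux n hn2 _ (G ⧸ pPrimeCore 2 G) le_rfl P' e' (fun M hM hodd => by
    have := H19.le_pPrimeCore (p := 2) hM (Nat.coprime_two_right.mpr hodd)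
    rwa [H19.pPrimeCore_quotient_pPrimeCore, le_bot_iff] at this)
  haveI : (P' : Subgroup (G ⧸ pPrimeCore 2 G)).Normal := hPn
  haveI : Group.IsNilpotent (P' : Subgroup (G ⧸ pPrimeCore 2 G)) := P'.2.isNilpotent
  haveI : Group.IsSolvable ((G ⧸ pPrimeCore 2 G) ⧸ (P' : Subgroup (G ⧸ pPrimeCore 2 G))) := by
    refine Group.isSolvable_of_comm fun a b => ?_
    haveI : IsCyclic ((G ⧸ pPrimeCore 2 G) ⧸ (P' : Subgroup (G ⧸ pPrimeCore 2 G))) := by
      rw [Subgroup.index_eq_card] at hidx
      rcases hidx with h | h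
      · haveI := (Nat.card_eq_one_iff_unique.mp h).1
        infer_instance
      · haveI : Fact (Nat.Prime 3) := ⟨Nat.prime_three⟩
        exact isCyclic_of_prime_card h
    letI := IsCyclic.commGroup (α := (G ⧸ pPrimeCore 2 G) ⧸ (P' : Subgroup (G ⧸ pPrimeCore 2 G)))
    exact mul_comm a b
  haveI : Group.IsSolvable (G ⧸ pPrimeCore 2 G) :=
    (Group.isSolvable_iff_subgroup_quotient (P' : Subgroup (G ⧸ pPrimeCore 2 G))).mpr
      ⟨inferInstance, inferInstance⟩
  exact (Group.isSolvable_iff_subgroup_quotient (pPrimeCore 2 G)).mpr ⟨inferInstance, inferInstance⟩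

end Cfsg.Agent.H52.Homocyclic
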